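import Cfsg.Agent.Lib.Linear.SpFourCover.Corner
import Cfsg.Agent.Lib.Linear.ShortPres.SpFour.Mat

/-!
# Absorbing unipotent radicals into conjugacy classes
-/

set_option autoImplicit false
set_option linter.unusedSimpArgs false
set_option linter.unusedSectionVars false

namespace Cfsg.Lib.Linear.SpFourCover

open Matrix Sum
open Cfsg.Lib.Chev.B2Sp (sp4 sp4_mul sp4_transpose J_eq)
open Cfsg.Lib.Linear.ShortPres.Four (ia ib ia_coe ib_coe)
open scoped MatrixGroups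

variable {F : Type*} [Field F] [Fintype F]

local notation "ι" => (Fin 2 ⊕ Fin 2)
local notation "M4" => Matrix (Fin 2 ⊕ Fin 2) (Fin 2 ⊕ Fin 2) F
local notation "Sp4" => Matrix.symplecticGroup (Fin 2) F

theorem inv_mem_of_mul_mem {S : Set Sp4} (h1 : (1 : Sp4) ∈ S) (hm : ∀ a b, a ∈ S → b ∈ S → a * b ∈ S)
    {a : Sp4} (ha : a ∈ S) : a⁻¹ ∈ S := by
  have hp : ∀ n : ℕ, a ^ n ∈ S := fun n => by
    induction n with
    | zero => simpa using h1
    | succ n ih => rw [pow_succ]; exact hm _ _ ih ha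
  have hn := orderOf_pos a
  rw [inv_eq_of_mul_eq_one_right (b := a ^ (orderOf a - 1))
    (by rw [← pow_succ', Nat.sub_add_cancel hn, pow_orderOf_eq_one])]
  exact hp _

theorem low_mul_mem (d : ι → ℤ) {a b : M4} (ha : ∀ i j, d i ≤ d j → a i j = if i = j then 1 else 0)
    (hb : ∀ i j, d i ≤ d j → b i j = if i = j then 1 else 0) (i j : ι) (hij : d i ≤ d j) :
    (a * b) i j = if i = j then 1 else 0 := by
  rw [Matrix.mul_apply, Finset.sum_eq_single i]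
  · rw [ha i i le_rfl, hb i j hij, if_pos rfl, one_mul]
  · intro k _ hk
    rcases le_or_gt (d i) (d k) with h | h
    · rw [ha i k h, if_neg (Ne.symm hk), zero_mul]
    · rw [hb k j (h.le.trans hij), if_neg (fun e => by subst e; omega), mul_zero]
  · intro h; exact absurd (Finset.mem_univ i) h

/-- The unipotent group below the diagonal of a grading. -/
def Low (d : ι → ℤ) : Subgroup Sp4 where
  carrier := {g : Sp4 | ∀ i j, d i ≤ d j → (g : M4) i j = if i = j then 1 else 0}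
  one_mem' := fun i j _ => by
    show (1 : M4) i j = _
    rw [Matrix.one_apply]
  mul_mem' := fun ha hb => low_mul_mem d ha hb
  inv_mem' := fun ha => inv_mem_of_mul_mem (S := {g : Sp4 | ∀ i j, d i ≤ d j → (g : M4) i j = if i = j then 1 else 0}) (fun i j _ => by
    show (1 : M4) i j = _
    rw [Matrix.one_apply]) (fun _ _ ha hb => low_mul_mem d ha hb) ha

theorem blk_mul_mem (d : ι → ℤ) {a b : M4} (ha : ∀ i j, d i ≠ d j → a i j = 0)
    (hb : ∀ i j, d i ≠ d j → b i j = 0) (i j : ι) (hij : d i ≠ d j) : (a * b) i j = 0 := by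
  rw [Matrix.mul_apply]
  refine Finset.sum_eq_zero fun k _ => ?_
  rcases eq_or_ne (d i) (d k) with h | h
  · rw [hb k j (h ▸ hij), mul_zero]
  · rw [ha i k h, zero_mul]

/-- The block diagonal group of a grading. -/
def Blk (d : ι → ℤ) : Subgroup Sp4 where
  carrier := {g : Sp4 | ∀ i j, d i ≠ d j → (g : M4) i j = 0}
  one_mem' := fun i j h => Matrix.one_apply_ne fun e => h (e ▸ rfl)
  mul_mem' := fun ha hb => blk_mul_mem d ha hb
  inv_mem' := fun ha => inv_mem_of_mul_mem (S := {g : Sp4 | ∀ i j, d i ≠ d j → (g : M4) i j = 0}) (fun i j h => Matrix.one_apply_ne fun e => h (e ▸ rfl))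
    (fun _ _ ha hb => blk_mul_mem d ha hb) ha

variable {d : ι → ℤ}

theorem mem_blk_neg {x : Sp4} : x ∈ Blk (-d) ↔ x ∈ Blk d := by
  simp only [Blk, Subgroup.mem_mk, Set.mem_ofPred_eq, Pi.neg_apply, ne_eq, neg_inj]

theorem low_conj {x n : Sp4} (hx : x ∈ Blk d) (hn : n ∈ Low d) : x * n * x⁻¹ ∈ Low d := by
  intro i j hij
  have hy : x⁻¹ ∈ Blk d := inv_mem hx
  have he : (((x * x⁻¹ : Sp4)) : M4) i j = if i = j then 1 else 0 := by
    rw [mul_inv_cancel]; exact Matrix.one_apply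
  rw [← he]
  simp only [Submonoid.coe_mul, Matrix.mul_apply]
  refine Finset.sum_congr rfl fun l _ => ?_
  rcases eq_or_ne (d l) (d j) with hlj | hlj
  swap
  · rw [hy l j hlj, mul_zero, mul_zero]
  congr 1
  rw [Finset.sum_eq_single l]
  · rw [hn l l le_rfl, if_pos rfl, mul_one]
  · intro k _ hk
    rcases eq_or_ne (d i) (d k) with hik | hik
    · rw [hn k l (by rw [← hik, hlj]; exact hij), if_neg hk, mul_zero]
    · rw [hx i k hik, zero_mul]
  · intro h; exact absurd (Finset.mem_univ l) h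

/-- No element of the unipotent group commutes with the element. -/
def Free (d : ι → ℤ) (x : Sp4) : Prop := x ∈ Blk d ∧ ∀ n ∈ Low d, n * x = x * n → n = 1

theorem Free.absorb {x : Sp4} (hf : Free d x) {u : Sp4} (hu : u ∈ Low d) : IsConj x (u * x) := by
  let φ : Low (F := F) d → Low (F := F) d := fun n =>
    ⟨n.1 * (x * n.1⁻¹ * x⁻¹), mul_mem n.2 (low_conj hf.1 (inv_mem n.2))⟩
  have hinj : Function.Injective φ := by
    intro m n h
    have h1 : m.1 * (x * m.1⁻¹ * x⁻¹) = n.1 * (x * n.1⁻¹ * x⁻¹) := congrArg Subtype.val h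
    have h2 : n.1⁻¹ * m.1 = 1 := hf.2 _ (mul_mem (inv_mem n.2) m.2) <| calc
      n.1⁻¹ * m.1 * x = n.1⁻¹ * (m.1 * (x * m.1⁻¹ * x⁻¹)) * x * m.1 := by group
      _ = n.1⁻¹ * (n.1 * (x * n.1⁻¹ * x⁻¹)) * x * m.1 := by rw [h1]
      _ = x * (n.1⁻¹ * m.1) := by group
    exact Subtype.ext (inv_mul_eq_one.1 h2).symm
  obtain ⟨n, hn⟩ := Finite.surjective_of_injective hinj ⟨u, hu⟩
  have hn' : n.1 * (x * n.1⁻¹ * x⁻¹) = u := congrArg Subtype.val hn
  exact isConj_iff.2 ⟨n.1, by rw [← hn']; group⟩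

theorem Free.conj {x r : Sp4} (hf : Free d x) (hr : r ∈ Blk d) : Free d (r * x * r⁻¹) := by
  refine ⟨mul_mem (mul_mem hr hf.1) (inv_mem hr), fun n hn h => ?_⟩
  have h1 : r⁻¹ * n * r ∈ Low d := by simpa using low_conj (inv_mem hr) hn
  have h2 := hf.2 _ h1 <| calc
    r⁻¹ * n * r * x = r⁻¹ * (n * (r * x * r⁻¹)) * r := by group
    _ = r⁻¹ * ((r * x * r⁻¹) * n) * r := by rw [h]
    _ = x * (r⁻¹ * n * r) := by group
  calc n = r * (r⁻¹ * n * r) * r⁻¹ := by group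
    _ = 1 := by rw [h2]; group

/-- A product of two conjugates of an element, up to the centre. -/
def Good (x g : Sp4) : Prop :=
  ∃ a b z : Sp4, IsConj x a ∧ IsConj x b ∧ z ∈ Subgroup.center Sp4 ∧ g = a * b * z

theorem Good.of_conj {x g h : Sp4} (hc : IsConj g h) (hh : Good x h) : Good x g := by
  obtain ⟨a, b, z, ha, hb, hz, rfl⟩ := hh
  obtain ⟨c, hc⟩ := isConj_iff.1 hc.symm
  refine ⟨c * a * c⁻¹, c * b * c⁻¹, z, ha.trans (isConj_iff.2 ⟨c, rfl⟩),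
    hb.trans (isConj_iff.2 ⟨c, rfl⟩), hz, ?_⟩
  have hzc : z * c⁻¹ = c⁻¹ * z := (Subgroup.mem_center_iff.1 hz c⁻¹).symm
  rw [← hc]
  simp only [mul_assoc]
  rw [hzc]
  simp [mul_assoc]

theorem good_of_factor {x x₁ x₂ l u z : Sp4} (h₁ : Free d x₁) (h₂ : Free (-d) x₂)
    (hl : l ∈ Low d) (hu : u ∈ Low (-d)) (c₁ : IsConj x x₁) (hz : z ∈ Subgroup.center Sp4)
    (c₂ : IsConj x (x₂ * z)) : Good x (l * (x₁ * x₂) * u) := by
  obtain ⟨k, hk⟩ := isConj_iff.1 (h₂.absorb (low_conj h₂.1 hu))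
  refine ⟨l * x₁, (x₂ * u * x₂⁻¹) * x₂ * z, z⁻¹, c₁.trans (h₁.absorb hl), ?_, inv_mem hz, by group⟩
  refine c₂.trans (isConj_iff.2 ⟨k, ?_⟩)
  have hzk : z * k⁻¹ = k⁻¹ * z := (Subgroup.mem_center_iff.1 hz k⁻¹).symm
  rw [← hk]
  simp only [mul_assoc]
  rw [hzk]

/-- Grading of the stabiliser of a point. -/
def d₁ : ι → ℤ := Sum.elim ![0, 1] ![2, 1]
/-- Grading of the stabiliser of a line. -/
def d₂ : ι → ℤ := Sum.elim ![0, 0] ![1, 1]
/-- Grading of the Borel group. -/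
def d₃ : ι → ℤ := Sum.elim ![0, 1] ![3, 2]

theorem low_mono {d d' : ι → ℤ} (h : ∀ i j, d' i ≤ d' j → d i ≤ d j) {g : Sp4} (hg : g ∈ Low d) :
    g ∈ Low d' := fun i j hij => hg i j (h i j hij)

theorem le13 : ∀ i j : ι, d₃ i ≤ d₃ j → d₁ i ≤ d₁ j := by decide
theorem le13' : ∀ i j : ι, (-d₃) i ≤ (-d₃) j → (-d₁) i ≤ (-d₁) j := by decide

theorem sp4_eta (M : M4) : M = sp4 (M (inl 0) (inl 0)) (M (inl 0) (inl 1)) (M (inl 0) (inr 0))
    (M (inl 0) (inr 1)) (M (inl 1) (inl 0)) (M (inl 1) (inl 1)) (M (inl 1) (inr 0))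
    (M (inl 1) (inr 1)) (M (inr 0) (inl 0)) (M (inr 0) (inl 1)) (M (inr 0) (inr 0))
    (M (inr 0) (inr 1)) (M (inr 1) (inl 0)) (M (inr 1) (inl 1)) (M (inr 1) (inr 0))
    (M (inr 1) (inr 1)) := by
  ext (i | i) (j | j) <;> fin_cases i <;> fin_cases j <;> simp [sp4]

theorem ib_blk (y : SL(2, F)) : ib y ∈ Blk d₁ := by
  intro i j h
  rw [ib_coe]
  rcases i with i | i <;> rcases j with j | j <;> fin_cases i <;> fin_cases j <;>
    simp [sp4, d₁] at h ⊢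

theorem ib_low {y : SL(2, F)} (h0 : y.1 0 0 = 1) (h1 : y.1 1 1 = 1) (h2 : y.1 0 1 = 0) :
    ib y ∈ Low d₃ := by
  intro i j h
  rw [ib_coe, h0, h1, h2]
  rcases i with i | i <;> rcases j with j | j <;> fin_cases i <;> fin_cases j <;>
    simp [sp4, d₃] at h ⊢

theorem ib_upp {y : SL(2, F)} (h0 : y.1 0 0 = 1) (h1 : y.1 1 1 = 1) (h2 : y.1 1 0 = 0) :
    ib y ∈ Low (-d₃) := by
  intro i j h
  rw [ib_coe, h0, h1, h2]
  rcases i with i | i <;> rcases j with j | j <;> fin_cases i <;> fin_cases j <;>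
    simp [sp4, d₃] at h ⊢

/-- Lower factor. -/
def lowEl (a b c : F) : Sp4 :=
  ⟨sp4 1 0 0 0 a 1 0 0 c b 1 (-a) b 0 0 1, by
    rw [SymplecticGroup.mem_iff, J_eq, sp4_transpose, sp4_mul, sp4_mul]
    congr 1 <;> ring1⟩

/-- Upper factor. -/
def uppEl (a b c : F) : Sp4 :=
  ⟨sp4 1 a c b 0 1 b 0 0 0 1 0 0 0 (-a) 1, by
    rw [SymplecticGroup.mem_iff, J_eq, sp4_transpose, sp4_mul, sp4_mul]
    congr 1 <;> ring1⟩

theorem lowEl_mem (a b c : F) : lowEl a b c ∈ Low d₁ := by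
  intro i j h
  show sp4 1 0 0 0 a 1 0 0 c b 1 (-a) b 0 0 1 i j = _
  rcases i with i | i <;> rcases j with j | j <;> fin_cases i <;> fin_cases j <;>
    simp [sp4, d₁] at h ⊢

theorem uppEl_mem (a b c : F) : uppEl a b c ∈ Low (-d₁) := by
  intro i j h
  show sp4 1 a c b 0 1 b 0 0 0 1 0 0 0 (-a) 1 i j = _
  rcases i with i | i <;> rcases j with j | j <;> fin_cases i <;> fin_cases j <;>
    simp [sp4, d₁] at h ⊢

theorem lowEl_inv (a b c : F) : (lowEl a b c)⁻¹ = lowEl (-a) (-b) (-c) := by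
  refine inv_eq_of_mul_eq_one_right (Subtype.ext ?_)
  show sp4 1 0 0 0 a 1 0 0 c b 1 (-a) b 0 0 1 * sp4 1 0 0 0 (-a) 1 0 0 (-c) (-b) 1 (- -a) (-b) 0 0 1 = 1
  rw [sp4_mul, ← Cfsg.Lib.Chev.B2Sp.sp4_one]
  congr 1 <;> ring

theorem uppEl_inv (a b c : F) : (uppEl a b c)⁻¹ = uppEl (-a) (-b) (-c) := by
  refine inv_eq_of_mul_eq_one_right (Subtype.ext ?_)
  show sp4 1 a c b 0 1 b 0 0 0 1 0 0 0 (-a) 1 * sp4 1 (-a) (-c) (-b) 0 1 (-b) 0 0 0 1 0 0 0 (- -a) 1 = 1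
  rw [sp4_mul, ← Cfsg.Lib.Chev.B2Sp.sp4_one]
  congr 1 <;> ring

theorem factor_aux (a01 a02 a03 a10 a11 a12 a13 a20 a21 a22 a23 a30 a31 a32 a33 : F)
    (hm : sp4 1 a01 a02 a03 a10 a11 a12 a13 a20 a21 a22 a23 a30 a31 a32 a33 ∈ Sp4) :
    (a11 - a10 * a01) * (a33 - a30 * a03) - (a13 - a10 * a03) * (a31 - a30 * a01) = 1 ∧
    sp4 1 a01 a02 a03 a10 a11 a12 a13 a20 a21 a22 a23 a30 a31 a32 a33 =
      sp4 1 0 0 0 a10 1 0 0 a20 a30 1 (-a10) a30 0 0 1 *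
        sp4 1 0 0 0 0 (a11 - a10 * a01) 0 (a13 - a10 * a03) 0 0 1 0 0 (a31 - a30 * a01) 0 (a33 - a30 * a03) *
        sp4 1 a01 a02 a03 0 1 a03 0 0 0 1 0 0 0 (-a01) 1 := by
  have e1 := SymplecticGroup.mem_iff'.1 hm
  have e2 := SymplecticGroup.mem_iff.1 hm
  rw [J_eq, sp4_transpose, sp4_mul, sp4_mul, sp4, sp4, Matrix.fromBlocks_inj] at e1 e2
  simp [← Matrix.ext_iff, Fin.forall_fin_two] at e1 e2
  refine ⟨by grind, ?_⟩
  rw [sp4_mul, sp4_mul]
  congr 1 <;> grind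

/-- An element with corner one splits along the stabiliser of a point. -/
theorem exists_factor {h : Sp4} (h0 : (h : M4) (inl 0) (inl 0) = 1) :
    ∃ l ∈ Low (F := F) d₁, ∃ u ∈ Low (F := F) (-d₁), ∃ y : SL(2, F),
      (y.1 : Matrix (Fin 2) (Fin 2) F) = mid (h : M4) ∧ h = l * ib y * u := by
  have hm := h.2
  rw [sp4_eta (h : M4), h0] at hm
  obtain ⟨hd, he⟩ := factor_aux _ _ _ _ _ _ _ _ _ _ _ _ _ _ _ hm
  refine ⟨lowEl ((h : M4) (inl 1) (inl 0)) ((h : M4) (inr 1) (inl 0)) ((h : M4) (inr 0) (inl 0)),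
    lowEl_mem _ _ _, uppEl ((h : M4) (inl 0) (inl 1)) ((h : M4) (inl 0) (inr 1)) ((h : M4) (inl 0) (inr 0)),
    uppEl_mem _ _ _, ⟨mid (h : M4), by simpa [mid, Matrix.det_fin_two] using hd⟩, rfl, Subtype.ext ?_⟩
  refine (sp4_eta (h : M4)).trans ?_
  rw [h0]
  exact he

end Cfsg.Lib.Linear.SpFourCover
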