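import Cfsg.Agent.Lib.Linear.SpFourCover.Absorb
import Cfsg.Agent.Lib.Spec.PSpFour.Spectrum

/-!
# The semisimple elements and the covering, case by case
-/

set_option autoImplicit false
set_option linter.unusedSimpArgs false
set_option linter.unusedSectionVars false

namespace Cfsg.Lib.Linear.SpFourCover

open Matrix Sum
open Cfsg.Lib.Chev.B2Sp (sp4 sp4_mul sp4_transpose J_eq sp4_one)
open Cfsg.Lib.Linear.ShortPres.Four (ia ib ia_coe ib_coe)
open scoped MatrixGroups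

variable {F : Type*} [Field F] [Fintype F]

local notation "ι" => (Fin 2 ⊕ Fin 2)
local notation "M4" => Matrix (Fin 2 ⊕ Fin 2) (Fin 2 ⊕ Fin 2) F
local notation "Sp4" => Matrix.symplecticGroup (Fin 2) F

theorem ne_scalar_of_not_center {g : Sp4} (hg : g ∉ Subgroup.center Sp4) (c : F) :
    (g : M4) ≠ c • 1 := by
  intro h
  refine hg ((Cfsg.Lib.Spec.PSpFour.mem_center_iff g).2 ⟨c, ?_, h⟩)
  have e := SymplecticGroup.mem_iff'.1 g.2
  rw [h, Matrix.transpose_smul, Matrix.transpose_one, Matrix.smul_mul, one_mul, Matrix.mul_smul,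
    mul_one, smul_smul] at e
  have := congrFun (congrFun e (inr 0)) (inl 0)
  simp [Matrix.J, sq] at this ⊢
  exact this

theorem neg_one_central : (⟨-(1 : M4), SymplecticGroup.neg_mem (one_mem Sp4)⟩ : Sp4) ∈ Subgroup.center Sp4 :=
  (Cfsg.Lib.Spec.PSpFour.mem_center_iff _).2 ⟨-1, by ring, by simp⟩

/-- Two-by-two matrices with an entry criterion. -/
theorem two_by_two {c p q r s v w : F} (hc : c * c - (p + s) * c + (p * s - q * r) ≠ 0)
    (h1 : c * v = p * v + q * w) (h2 : c * w = r * v + s * w) : v = 0 ∧ w = 0 := by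
  constructor
  · exact (mul_eq_zero.1 (show (c * c - (p + s) * c + (p * s - q * r)) * v = 0 by
      linear_combination (c - s) * h1 + q * h2)).resolve_left hc
  · exact (mul_eq_zero.1 (show (c * c - (p + s) * c + (p * s - q * r)) * w = 0 by
      linear_combination r * h1 + (c - p) * h2)).resolve_left hc

/-- A split regular torus element. -/
def torEl (a b : F) (ha : a ≠ 0) (hb : b ≠ 0) : Sp4 :=
  ⟨sp4 a 0 0 0 0 b 0 0 0 0 a⁻¹ 0 0 0 0 b⁻¹, by
    rw [SymplecticGroup.mem_iff, J_eq, sp4_transpose, sp4_mul, sp4_mul]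
    congr 1 <;> simp [ha, hb]⟩

theorem torEl_blk {d : ι → ℤ} (a b : F) (ha : a ≠ 0) (hb : b ≠ 0) : torEl a b ha hb ∈ Blk d := by
  intro i j h
  show sp4 a 0 0 0 0 b 0 0 0 0 a⁻¹ 0 0 0 0 b⁻¹ i j = 0
  rcases i with i | i <;> rcases j with j | j <;> fin_cases i <;> fin_cases j <;> simp [sp4] at h ⊢

theorem torEl_inv (a b : F) (ha : a ≠ 0) (hb : b ≠ 0) :
    (torEl a b ha hb)⁻¹ = torEl a⁻¹ b⁻¹ (inv_ne_zero ha) (inv_ne_zero hb) := by
  refine inv_eq_of_mul_eq_one_right (Subtype.ext ?_)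
  show sp4 a 0 0 0 0 b 0 0 0 0 a⁻¹ 0 0 0 0 b⁻¹ * sp4 a⁻¹ 0 0 0 0 b⁻¹ 0 0 0 0 a⁻¹⁻¹ 0 0 0 0 b⁻¹⁻¹ = 1
  rw [sp4_mul, ← sp4_one]
  congr 1 <;> simp [ha, hb]

theorem torEl_free {d : ι → ℤ} {a b : F} (ha : a ≠ 0) (hb : b ≠ 0) (h1 : a ≠ b) (h2 : a * a ≠ 1)
    (h3 : b * b ≠ 1) (h4 : a * b ≠ 1) : Free d (torEl a b ha hb) := by
  refine ⟨torEl_blk a b ha hb, fun n hn he => Subtype.ext ?_⟩
  have hd : (torEl a b ha hb : M4) = Matrix.diagonal (Sum.elim ![a, b] ![a⁻¹, b⁻¹]) := by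
    show sp4 a 0 0 0 0 b 0 0 0 0 a⁻¹ 0 0 0 0 b⁻¹ = _
    ext (i | i) (j | j) <;> fin_cases i <;> fin_cases j <;> simp [sp4, Matrix.diagonal]
  have hne : ∀ i j : ι, i ≠ j →
      (Sum.elim ![a, b] ![a⁻¹, b⁻¹] : ι → F) i ≠ Sum.elim ![a, b] ![a⁻¹, b⁻¹] j := by
    have e1 : a ≠ a⁻¹ := fun e => h2 (by field_simp at e; linear_combination e)
    have e2 : b ≠ b⁻¹ := fun e => h3 (by field_simp at e; linear_combination e)
    have e3 : a ≠ b⁻¹ := fun e => h4 (by field_simp at e; linear_combination e)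
    have e4 : b ≠ a⁻¹ := fun e => h4 (by field_simp at e; linear_combination e)
    have e5 : a⁻¹ ≠ b⁻¹ := fun e => h1 (inv_injective e)
    rintro (i | i) (j | j) h <;> fin_cases i <;> fin_cases j <;>
      simp_all [Ne.symm h1, Ne.symm e1, Ne.symm e2, Ne.symm e3, Ne.symm e4, Ne.symm e5]
  have he' := congrArg (fun x : Sp4 => (x : M4)) he
  simp only [Submonoid.coe_mul, hd] at he'
  ext i j
  rcases eq_or_ne i j with rfl | hij
  · rw [hn i i le_rfl, if_pos rfl]; exact (Matrix.one_apply_eq i).symm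
  · have h := congrFun (congrFun he' i) j
    rw [Matrix.mul_diagonal, Matrix.diagonal_mul, mul_comm] at h
    rw [show (((1 : Sp4)) : M4) i j = 0 from Matrix.one_apply_ne hij]
    by_contra hne'
    exact hne j i hij.symm (mul_right_cancel₀ hne' h)

/-- The element of a point stabiliser. -/
def ptEl (a : F) (ha : a ≠ 0) (y : SL(2, F)) : Sp4 := torEl a 1 ha one_ne_zero * ib y

theorem ptEl_coe (a : F) (ha : a ≠ 0) (y : SL(2, F)) : (ptEl a ha y : M4) =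
    sp4 a 0 0 0 0 (y.1 0 0) 0 (y.1 0 1) 0 0 a⁻¹ 0 0 (y.1 1 0) 0 (y.1 1 1) := by
  show sp4 a 0 0 0 0 1 0 0 0 0 a⁻¹ 0 0 0 0 1⁻¹ * (ib y : M4) = _
  rw [ib_coe, sp4_mul]
  congr 1 <;> simp

set_option maxHeartbeats 1600000 in
theorem ptEl_free {a : F} (ha : a ≠ 0) (h2 : a * a ≠ 1) (y : SL(2, F))
    (hc : a * a - (y.1 0 0 + y.1 1 1) * a + 1 ≠ 0) :
    Free d₁ (ptEl a ha y) ∧ Free (-d₁) (ptEl a ha y) := by
  have hdet : y.1 0 0 * y.1 1 1 - y.1 0 1 * y.1 1 0 = 1 := Cfsg.Lib.Linear.ShortPres.Four.det_eq y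
  have hc1 : a * a - (y.1 0 0 + y.1 1 1) * a + (y.1 0 0 * y.1 1 1 - y.1 0 1 * y.1 1 0) ≠ 0 := by
    rwa [hdet]
  have hc2 : a⁻¹ * a⁻¹ - (y.1 0 0 + y.1 1 1) * a⁻¹ + (y.1 0 0 * y.1 1 1 - y.1 0 1 * y.1 1 0) ≠ 0 := by
    rw [hdet]
    intro e
    refine hc ?_
    field_simp at e
    linear_combination e
  have hb : ptEl a ha y ∈ Blk d₁ := mul_mem (torEl_blk _ _ _ _) (ib_blk y)
  have haa : a - a⁻¹ ≠ 0 := fun e => h2 (by field_simp at e; linear_combination e)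
  refine ⟨⟨hb, fun n hn he => ?_⟩, ⟨mem_blk_neg.2 hb, fun n hn he => ?_⟩⟩
  · have he' := congrArg (fun x : Sp4 => (x : M4)) he
    simp only [Submonoid.coe_mul, ptEl_coe] at he'
    have z1 := hn (inl 0) (inl 0) le_rfl
    have z2 := hn (inl 1) (inl 1) le_rfl
    have z3 := hn (inr 0) (inr 0) le_rfl
    have z4 := hn (inr 1) (inr 1) le_rfl
    have z5 := hn (inl 1) (inr 1) le_rfl
    have z6 := hn (inr 1) (inl 1) le_rfl
    simp at z1 z2 z3 z4 z5 z6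
    refine Subtype.ext ?_
    simp only [← Matrix.ext_iff, Sum.forall, Fin.forall_fin_two, Matrix.mul_apply,
      Fintype.sum_sum_type, Fin.sum_univ_two] at he'
    simp [sp4, z1, z2, z3, z4, z5, z6] at he'
    show _ = (1 : M4)
    rw [sp4_eta (n : M4), ← sp4_one]
    have y1 := hn (inl 0) (inl 1) (by decide)
    have y2 := hn (inl 0) (inr 0) (by decide)
    have y3 := hn (inl 0) (inr 1) (by decide)
    have y4 := hn (inl 1) (inr 0) (by decide)
    have y5 := hn (inr 1) (inr 0) (by decide)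
    simp at y1 y2 y3 y4 y5
    simp only [y1, y2, y3, y4, y5] at he' ⊢
    have k1 := two_by_two hc1 (v := (n : M4) (inl 1) (inl 0)) (w := (n : M4) (inr 1) (inl 0))
      (by grind) (by grind)
    have k2 := two_by_two (p := y.1 0 0) (q := y.1 1 0) (r := y.1 0 1) (s := y.1 1 1) (c := a⁻¹)
      (fun e => hc2 (by linear_combination e)) (v := (n : M4) (inr 0) (inl 1))
      (w := (n : M4) (inr 0) (inr 1)) (by grind) (by grind)
    have k3 : (n : M4) (inr 0) (inl 0) = 0 :=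
      (mul_eq_zero.1 (show (a - a⁻¹) * (n : M4) (inr 0) (inl 0) = 0 by grind)).resolve_left haa
    simp [z1, z2, z3, z4, z5, z6, k1.1, k1.2, k2.1, k2.2, k3]
  · have he' := congrArg (fun x : Sp4 => (x : M4)) he
    simp only [Submonoid.coe_mul, ptEl_coe] at he'
    have z1 := hn (inl 0) (inl 0) le_rfl
    have z2 := hn (inl 1) (inl 1) le_rfl
    have z3 := hn (inr 0) (inr 0) le_rfl
    have z4 := hn (inr 1) (inr 1) le_rfl
    have z5 := hn (inl 1) (inr 1) le_rfl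
    have z6 := hn (inr 1) (inl 1) le_rfl
    simp at z1 z2 z3 z4 z5 z6
    refine Subtype.ext ?_
    simp only [← Matrix.ext_iff, Sum.forall, Fin.forall_fin_two, Matrix.mul_apply,
      Fintype.sum_sum_type, Fin.sum_univ_two] at he'
    simp [sp4, z1, z2, z3, z4, z5, z6] at he'
    show _ = (1 : M4)
    rw [sp4_eta (n : M4), ← sp4_one]
    have y1 := hn (inl 1) (inl 0) (by decide)
    have y2 := hn (inr 0) (inl 0) (by decide)
    have y3 := hn (inr 1) (inl 0) (by decide)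
    have y4 := hn (inr 0) (inl 1) (by decide)
    have y5 := hn (inr 0) (inr 1) (by decide)
    simp at y1 y2 y3 y4 y5
    simp only [y1, y2, y3, y4, y5] at he' ⊢
    have k1 := two_by_two (p := y.1 0 0) (q := y.1 1 0) (r := y.1 0 1) (s := y.1 1 1) (c := a)
      (fun e => hc1 (by linear_combination e)) (v := (n : M4) (inl 0) (inl 1))
      (w := (n : M4) (inl 0) (inr 1)) (by grind) (by grind)
    have k2 := two_by_two hc2 (v := (n : M4) (inl 1) (inr 0)) (w := (n : M4) (inr 1) (inr 0))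
      (by grind) (by grind)
    have k3 : (n : M4) (inl 0) (inr 0) = 0 :=
      (mul_eq_zero.1 (show (a - a⁻¹) * (n : M4) (inl 0) (inr 0) = 0 by grind)).resolve_left haa
    simp [z1, z2, z3, z4, z5, z6, k1.1, k1.2, k2.1, k2.2, k3]

/-- Swapping a hyperbolic pair. -/
def swapEl : Sp4 :=
  ⟨sp4 0 0 (-1) 0 0 1 0 0 1 0 0 0 0 0 0 1, by
    rw [SymplecticGroup.mem_iff, J_eq, sp4_transpose, sp4_mul, sp4_mul]
    congr 1 <;> ring1⟩

theorem ptEl_swap (a : F) (ha : a ≠ 0) (y : SL(2, F)) :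
    IsConj (ptEl a ha y) (ptEl a⁻¹ (inv_ne_zero ha) y) := by
  refine isConj_iff.2 ⟨swapEl, ?_⟩
  rw [mul_inv_eq_iff_eq_mul]
  refine Subtype.ext ?_
  show sp4 0 0 (-1) 0 0 1 0 0 1 0 0 0 0 0 0 1 * (ptEl a ha y : M4) =
    (ptEl a⁻¹ (inv_ne_zero ha) y : M4) * sp4 0 0 (-1) 0 0 1 0 0 1 0 0 0 0 0 0 1
  rw [ptEl_coe, ptEl_coe, sp4_mul, sp4_mul]
  congr 1 <;> simp

theorem torEl_swap (a b : F) (ha : a ≠ 0) (hb : b ≠ 0) :
    IsConj (torEl a b ha hb) (torEl a⁻¹ b⁻¹ (inv_ne_zero ha) (inv_ne_zero hb)) := by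
  refine isConj_iff.2 ⟨SymplecticGroup.symJ (Fin 2) F, ?_⟩
  rw [mul_inv_eq_iff_eq_mul]
  refine Subtype.ext ?_
  show Matrix.J (Fin 2) F * sp4 a 0 0 0 0 b 0 0 0 0 a⁻¹ 0 0 0 0 b⁻¹ =
    sp4 a⁻¹ 0 0 0 0 b⁻¹ 0 0 0 0 a⁻¹⁻¹ 0 0 0 0 b⁻¹⁻¹ * Matrix.J (Fin 2) F
  rw [J_eq, sp4_mul, sp4_mul]
  congr 1 <;> simp

theorem ib_comm_tor (a : F) (ha : a ≠ 0) (r : SL(2, F)) :
    ib r * torEl a 1 ha one_ne_zero = torEl a 1 ha one_ne_zero * ib r := by
  refine Subtype.ext ?_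
  show (ib r : M4) * sp4 a 0 0 0 0 1 0 0 0 0 a⁻¹ 0 0 0 0 1⁻¹ =
    sp4 a 0 0 0 0 1 0 0 0 0 a⁻¹ 0 0 0 0 1⁻¹ * (ib r : M4)
  rw [ib_coe, sp4_mul, sp4_mul]
  congr 1 <;> simp

theorem ptEl_conj (a : F) (ha : a ≠ 0) (r y : SL(2, F)) :
    ptEl a ha (r * y * r⁻¹) = ib r * ptEl a ha y * (ib r)⁻¹ := by
  simp only [ptEl, map_mul, map_inv]
  rw [← mul_assoc (ib r), ib_comm_tor a ha r]
  group

theorem ptEl_mul_inv (a : F) (ha : a ≠ 0) (y y' : SL(2, F)) :
    ptEl a ha y * ptEl a⁻¹ (inv_ne_zero ha) y' = ib (y * y') := by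
  refine Subtype.ext ?_
  rw [map_mul, Submonoid.coe_mul, Submonoid.coe_mul, ptEl_coe, ptEl_coe, ib_coe, ib_coe, sp4_mul, sp4_mul]
  congr 1 <;> simp [ha]

/-- The companion matrix of trace `s`. -/
def comp (s : F) : SL(2, F) := ⟨!![0, -1; 1, s], by simp [Matrix.det_fin_two]⟩

theorem conj_comp (M : SL(2, F)) (s : F) (hs : M.1 0 0 + M.1 1 1 = s) (x y : F)
    (hq : x * (M.1 1 0 * x + M.1 1 1 * y) - y * (M.1 0 0 * x + M.1 0 1 * y) = 1) :
    ∃ r : SL(2, F), M = r * comp s * r⁻¹ := by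
  obtain ⟨r, hr⟩ : ∃ r : SL(2, F), r.1 = !![x, M.1 0 0 * x + M.1 0 1 * y; y, M.1 1 0 * x + M.1 1 1 * y] :=
    ⟨⟨_, by simp [Matrix.det_fin_two]; linear_combination hq⟩, rfl⟩
  refine ⟨r, ?_⟩
  rw [eq_mul_inv_iff_mul_eq]
  have hdet : M.1 0 0 * M.1 1 1 - M.1 0 1 * M.1 1 0 = 1 := Cfsg.Lib.Linear.ShortPres.Four.det_eq M
  refine Subtype.ext ?_
  show M.1 * r.1 = r.1 * !![0, -1; 1, s]
  rw [hr]
  ext i j
  fin_cases i <;> fin_cases j <;> simp [Matrix.mul_apply, Fin.sum_univ_two] <;> grind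

/-- A conjugate of the element, twisted into the centre. -/
theorem good_pt {a s : F} (ha : a ≠ 0) (h2 : a * a ≠ 1) (hc : a * a - s * a + 1 ≠ 0) {g : Sp4}
    {l u : Sp4} (hl : l ∈ Low d₁) (hu : u ∈ Low (-d₁)) {r₁ r₂ : SL(2, F)} {ε : Bool}
    {y : SL(2, F)} (hg : IsConj g (l * ib y * u))
    (hy : (y.1 : Matrix (Fin 2) (Fin 2) F) =
      if ε then (r₁ * comp s * r₁⁻¹ * (r₂ * comp s * r₂⁻¹)).1
      else -(r₁ * comp s * r₁⁻¹ * (r₂ * comp s * r₂⁻¹)).1)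
    (hε : ε = true ∨ a * a = -1) : Good (ptEl a ha (comp s)) g := by
  have hcs : (comp s).1 0 0 + (comp s).1 1 1 = s := by simp [comp]
  obtain ⟨f1, f2⟩ := ptEl_free ha h2 (comp s) (by rwa [hcs])
  have hi2 : a⁻¹ * a⁻¹ ≠ 1 := fun e => h2 (by field_simp at e; linear_combination -e)
  obtain ⟨-, f4⟩ := ptEl_free (inv_ne_zero ha) hi2 (comp s) (by
    rw [hcs]; intro e; refine hc ?_; field_simp at e; linear_combination e)
  set h₁ := r₁ * comp s * r₁⁻¹ with hh1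
  set h₂ := r₂ * comp s * r₂⁻¹ with hh2
  have c1 : IsConj (ptEl a ha (comp s)) (ptEl a ha h₁) :=
    isConj_iff.2 ⟨ib r₁, (ptEl_conj a ha r₁ (comp s)).symm⟩
  have e1 : Free d₁ (ptEl a ha h₁) := by
    rw [hh1, ptEl_conj]; exact f1.conj (ib_blk r₁)
  refine Good.of_conj hg ?_
  cases ε
  · have haa : a * a = -1 := hε.resolve_left (by simp)
    set z : Sp4 := ⟨-(1 : M4), SymplecticGroup.neg_mem (one_mem Sp4)⟩ with hz
    have hzz : z * z = 1 := Subtype.ext (by simp [hz])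
    have hzc : z ∈ Subgroup.center Sp4 := neg_one_central
    have hzb : z ∈ Blk (-d₁) := by
      intro i j h
      show (-(1 : M4)) i j = 0
      rw [Matrix.neg_apply, Matrix.one_apply_ne (fun e => h (by rw [e])), neg_zero]
    have e2 : Free (-d₁) (ptEl a ha h₂) := by
      rw [hh2, ptEl_conj]; exact f2.conj (mem_blk_neg.2 (ib_blk r₂))
    have e3 : Free (-d₁) (ptEl a ha h₂ * z) := by
      refine ⟨mul_mem e2.1 hzb, fun n hn he => e2.2 n hn (mul_right_cancel (b := z) ?_)⟩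
      rw [mul_assoc, he, mul_assoc, mul_assoc, Subgroup.mem_center_iff.1 hzc n]
    have hyy : ib y = ptEl a ha h₁ * (ptEl a ha h₂ * z) := by
      refine Subtype.ext ?_
      simp only [Submonoid.coe_mul, hz, mul_neg, mul_one, ptEl_coe, ib_coe, sp4_mul]
      rw [show ∀ M : M4, -M = (-1 : F) • M from fun M => by simp, sp4, sp4, Matrix.fromBlocks_smul,
        Matrix.fromBlocks_inj]
      simp only [← Matrix.ext_iff, Fin.forall_fin_two, Matrix.smul_apply, smul_eq_mul]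
      have hy' := hy
      simp only [Bool.false_eq_true, if_false, Matrix.SpecialLinearGroup.coe_mul] at hy'
      have a1 : a * a⁻¹ = 1 := mul_inv_cancel₀ ha
      simp [hy', Matrix.mul_apply, Fin.sum_univ_two] <;> grind
    rw [hyy]
    refine good_of_factor e1 e3 hl hu c1 hzc ?_
    rw [mul_assoc, hzz, mul_one]
    exact isConj_iff.2 ⟨ib r₂, (ptEl_conj a ha r₂ (comp s)).symm⟩
  · have e2 : Free (-d₁) (ptEl a⁻¹ (inv_ne_zero ha) h₂) := by
      rw [hh2, ptEl_conj]; exact f4.conj (mem_blk_neg.2 (ib_blk r₂))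
    have hyy : y = h₁ * h₂ := Subtype.ext (by simpa using hy)
    rw [hyy, ← ptEl_mul_inv a ha]
    refine good_of_factor e1 e2 hl hu c1 (one_mem _) ?_
    rw [mul_one]
    exact (ptEl_swap a ha _).trans (isConj_iff.2 ⟨ib r₂, (ptEl_conj a⁻¹ (inv_ne_zero ha) r₂ (comp s)).symm⟩)

end Cfsg.Lib.Linear.SpFourCover
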