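import Cfsg.Agent.Lib.Linear.SpFourCover.Form

/-!
# A prescribed corner entry and a restriction on the middle part
-/

set_option autoImplicit false
set_option linter.unusedSimpArgs false

namespace Cfsg.Lib.Linear.SpFourCover

open Matrix Sum

variable {F : Type*} [Field F]

local notation "V" => (Fin 2 ⊕ Fin 2 → F)
local notation "M4" => Matrix (Fin 2 ⊕ Fin 2) (Fin 2 ⊕ Fin 2) F
local notation "Sp4" => Matrix.symplecticGroup (Fin 2) F

/-- Some conjugate has corner entry one. -/
theorem conj_corner {g : Sp4} (hg : ∀ c : F, (g : M4) ≠ c • 1) :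
    ∃ h : Sp4, IsConj g h ∧ (h : M4) (inl 0) (inl 0) = 1 := by
  obtain ⟨e, he, hmov⟩ := exists_moved hg
  obtain ⟨f, h1, h2⟩ := exists_two he hmov 1 1
  obtain ⟨z, w, D⟩ := exists_fr h1
  obtain ⟨h, hc, h0, -, -⟩ := D.matrix g
  exact ⟨h, hc, h0.trans h2⟩

/-- In odd characteristic the middle part can be kept different from `-1`. -/
theorem conj_corner_odd (h2 : (2 : F) ≠ 0) {g : Sp4} (hg : ∀ c : F, (g : M4) ≠ c • 1) :
    ∃ h : Sp4, IsConj g h ∧ (h : M4) (inl 0) (inl 0) = 1 ∧ mid (h : M4) ≠ -1 := by
  classical
  by_cases hQ : ∃ e : V, B e (act g e) ≠ 0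
  · obtain ⟨e, hd⟩ := hQ
    set d := B e (act g e) with hd'
    have hdd : B (act g e) e = -d := B_swap _ _
    set f0 := d⁻¹ • (act g e - e) with hf0
    have hef : B e f0 = 1 := by
      rw [hf0, B_smul_right, B_sub_right, B_self, sub_zero, inv_mul_cancel₀ hd]
    have hgf : B (act g e) f0 = 1 := by
      rw [hf0, B_smul_right, B_sub_right, B_self, hdd, zero_sub, neg_neg, inv_mul_cancel₀ hd]
    obtain ⟨z, w, D⟩ := exists_fr hef
    have hge : act g e = d • f0 + e := by
      rw [hf0, smul_smul, mul_inv_cancel₀ hd, one_smul, sub_add_cancel]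
    have hz : B (act g e) z = 0 := by
      rw [hge, B_add_left, B_smul_left, D.fz, D.ez, mul_zero, add_zero]
    have hw : B (act g e) w = 0 := by
      rw [hge, B_add_left, B_smul_left, D.fw, D.ew, mul_zero, add_zero]
    by_contra hcon
    push Not at hcon
    have key : ∀ t : F, B z (act g w) = -1 ∧
        B (act g w) w + t * (B (act g w) e + d * B (act g w) f0) +
          t * t * (d * B (act g w) z) = 0 := by
      intro t
      have hze : B z e = 0 := by rw [B_swap, D.ez, neg_zero]
      have hwe : B w e = 0 := by rw [B_swap, D.ew, neg_zero]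
      have hwz : B w z = -1 := by rw [B_swap, D.zw]
      have hf0e : B f0 e = -1 := by rw [B_swap, D.ef]
      have Dt : Fr e z (f0 + t • z) (w + t • e) := by
        refine ⟨?_, ?_, D.ez, ?_, ?_, ?_⟩ <;>
          simp only [B_add_left, B_add_right, B_smul_left, B_smul_right, B_self, D.ef, D.zw, D.ez,
            D.ew, D.fz, D.fw, hze, hf0e] <;> ring
      obtain ⟨h, hc, h0, hm, -⟩ := Dt.matrix g
      have hm1 := hcon h hc (h0.trans (by rw [B_add_right, hgf, B_smul_right, hz]; ring))
      rw [hm] at hm1
      have e11 := congrFun (congrFun hm1 1) 1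
      have e01 := congrFun (congrFun hm1 0) 1
      simp only [Matrix.of_apply, Matrix.cons_val', Matrix.cons_val_one, Matrix.cons_val_zero,
        Matrix.empty_val', Matrix.cons_val_fin_one, Matrix.neg_apply, Matrix.one_apply_eq] at e11 e01
      rw [Matrix.one_apply_ne (by decide), neg_zero] at e01
      have hzz : B z (act g e) = 0 := by rw [B_swap, hz, neg_zero]
      simp only [act_add, act_smul, B_add_left, B_add_right, B_smul_left, B_smul_right, hw, hdd,
        hgf, hz, hzz] at e11 e01
      exact ⟨by linear_combination e11, by linear_combination e01⟩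
    have k0 := (key 0).2
    have k1 := (key 1).2
    have k2 := (key (-1)).2
    have e1 : B (act g w) z = 1 := by rw [B_swap, (key 0).1, neg_neg]
    rw [e1] at k1 k2
    have : (2 : F) * d = 0 := by linear_combination k1 + k2 - 2 * k0
    exact (mul_eq_zero.1 this).elim h2 hd
  · push Not at hQ
    have hsym : ∀ u v : V, B (act g u) v = B u (act g v) := by
      intro u v
      have h := hQ (u + v)
      rw [act_add, B_add_left, B_add_right, B_add_right, hQ, hQ] at h
      rw [B_swap (act g u) v]
      linear_combination -h
    have hinv : ∀ v, act g (act g v) = v := by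
      intro v
      refine sub_eq_zero.1 (eq_zero_of_forall fun u => ?_)
      have h := hsym (act g v) u
      rw [B_act] at h
      rw [B_sub_left, h, sub_self]
    have hpr : ∀ v : V, act g (act g v + v) = act g v + v ∧ act g (act g v - v) = -(act g v - v) :=
      fun v => ⟨by rw [act_add, hinv, add_comm], by rw [act_sub, hinv, neg_sub]⟩
    obtain ⟨a, ha0, hga⟩ : ∃ a : V, a ≠ 0 ∧ act g a = a := by
      by_contra hc
      push Not at hc
      refine hg (-1) (Matrix.ext_of_mulVec_single fun i => ?_)
      have h : act g (Pi.single i 1) + Pi.single i 1 = 0 := by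
        by_contra hne; exact hc _ hne (hpr _).1
      show act g (Pi.single i 1) = _
      rw [Matrix.smul_mulVec, Matrix.one_mulVec, neg_one_smul]
      exact eq_neg_of_add_eq_zero_left h
    obtain ⟨b, hb0, hgb⟩ : ∃ b : V, b ≠ 0 ∧ act g b = -b := by
      by_contra hc
      push Not at hc
      refine hg 1 (Matrix.ext_of_mulVec_single fun i => ?_)
      have h : act g (Pi.single i 1) - Pi.single i 1 = 0 := by
        by_contra hne; exact hc _ hne (hpr _).2
      show act g (Pi.single i 1) = _
      rw [one_smul, Matrix.one_mulVec]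
      exact sub_eq_zero.1 h
    have horth : ∀ u v : V, act g u = u → act g v = -v → B u v = 0 ∧ B v u = 0 := by
      intro u v hu hv
      have h := hsym u v
      rw [hu, hv, B_neg_right] at h
      have h0 : B u v = 0 := (mul_eq_zero.1 (show (2 : F) * B u v = 0 by linear_combination h)).resolve_left h2
      exact ⟨h0, by rw [B_swap, h0, neg_zero]⟩
    obtain ⟨v1, hv1⟩ := exists_partner ha0
    obtain ⟨v2, hv2⟩ := exists_partner hb0
    set a' := (2 : F)⁻¹ • (act g v1 + v1) with ha'
    set b' := -((2 : F)⁻¹ • (act g v2 - v2)) with hb'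
    have hga' : act g a' = a' := by rw [ha', act_smul, (hpr v1).1]
    have hgb' : act g b' = -b' := by
      rw [hb', ← neg_smul, act_smul, (hpr v2).2, smul_neg]
    have haa : B a a' = 1 := by
      have h := B_act g a v1
      rw [hga] at h
      rw [ha', B_smul_right, B_add_right, h, hv1]
      field_simp; ring
    have hbb : B b b' = 1 := by
      have h := B_act g b v2
      rw [hgb, B_neg_left] at h
      have h' : B b (act g v2) = -B b v2 := by linear_combination -h
      rw [hb', B_neg_right, B_smul_right, B_sub_right, h', hv2]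
      field_simp; ring
    obtain ⟨o1, o2⟩ := horth a b hga hgb
    obtain ⟨o3, o4⟩ := horth a b' hga hgb'
    obtain ⟨o5, o6⟩ := horth a' b hga' hgb
    obtain ⟨o7, o8⟩ := horth a' b' hga' hgb'
    have haa' : B a' a = -1 := by rw [B_swap, haa]
    have hbb' : B b' b = -1 := by rw [B_swap, hbb]
    have D : Fr (a + b) b (a' + b) (a - a' + b') := by
      constructor <;>
        simp only [B_add_left, B_add_right, B_sub_left, B_sub_right, B_self, haa, hbb, haa', hbb',
          o1, o2, o3, o4, o5, o6, o7, o8] <;> ring
    obtain ⟨h, hc, h0, hm, -⟩ := D.matrix g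
    refine ⟨h, hc, ?_, ?_⟩
    · rw [h0]
      simp only [act_add, hga, hgb, B_add_left, B_add_right, B_neg_left, B_self, haa, o1, o6]
      ring
    · intro hm1
      rw [hm] at hm1
      have e01 := congrFun (congrFun hm1 0) 1
      simp [act_add, act_sub, hga, hgb, hga', hgb', B_add_left, B_add_right, B_sub_left,
        B_sub_right, B_neg_left, B_neg_right, B_self, haa, hbb, haa', hbb', o1, o2, o3, o4, o5, o6,
        o7, o8] at e01
      rcases e01 with e | e
      · exact h2 (by linear_combination -e)
      · exact h2 (by linear_combination e)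

theorem five_false (N : Module.End F V) (a b c : V) (hc : N (N c) = N a) (ha : N (N a) = 0)
    (hb : N (N b) = 0) (hab : ∀ α β : F, α • N a + β • N b = 0 → α = 0 ∧ β = 0) : False := by
  have hli : LinearIndependent F ![N a, N b, a, b, c] := by
    rw [Fintype.linearIndependent_iff]
    intro k hk
    simp [Fin.sum_univ_succ] at hk
    have h4 : k 4 = 0 := by
      have h := congrArg (fun v => N (N v)) hk
      simp [map_add, map_smul, ha, hb, hc] at h
      exact (hab (k 4) 0 (by simpa using h)).1
    rw [h4] at hk
    have h23 : k 2 = 0 ∧ k 3 = 0 := by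
      have h := congrArg (fun v => N v) hk
      simp [map_add, map_smul, ha, hb] at h
      exact hab _ _ h
    simp [h23.1, h23.2] at hk
    obtain ⟨h0, h1⟩ := hab _ _ hk
    intro i
    fin_cases i <;> simp [h0, h1, h23.1, h23.2, h4]
  have := hli.fintype_card_le_finrank
  simp [Module.finrank_fintype_fun_eq_card] at this

/-- A fixed vector whose perpendicular space moves into its line gives a trivial middle part. -/
theorem mid_one_of_fixed [CharP F 2] {g : Sp4} {e : V} (he : e ≠ 0) (hge : act g e = e)
    (hN : ∀ x, B e x = 0 → ∃ c : F, act g x + x = c • e) :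
    ∃ h : Sp4, IsConj g h ∧ (h : M4) (inl 0) (inl 0) = 1 ∧ mid (h : M4) = 1 := by
  obtain ⟨f, hf⟩ := exists_partner he
  obtain ⟨z, w, D⟩ := exists_fr hf
  obtain ⟨h, hc, h0, hm, -⟩ := D.matrix g
  refine ⟨h, hc, by rw [h0, hge, hf], ?_⟩
  obtain ⟨c1, hc1⟩ := hN z D.ez
  obtain ⟨c2, hc2⟩ := hN w D.ew
  have hz : act g z = c1 • e + z := by
    rw [← hc1, add_assoc, CharTwo.add_self_eq_zero, add_zero]
  have hw : act g w = c2 • e + w := by
    rw [← hc2, add_assoc, CharTwo.add_self_eq_zero, add_zero]
  have hze : B z e = 0 := by rw [B_swap, D.ez, neg_zero]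
  rw [hm, hge, hz, hw]
  simp [B_add_left, B_add_right, B_smul_left, B_smul_right, B_self, D.ez, D.ew, D.zw, hze,
    Matrix.one_fin_two]

/-- An involution in characteristic two. -/
theorem conj_mid_one [CharP F 2] (hsqrt : ∀ x : F, ∃ c, c ^ 2 = x) {g : Sp4}
    (hg : ∀ c : F, (g : M4) ≠ c • 1) (hinv : ∀ v, act g (act g v) = v) :
    ∃ h : Sp4, IsConj g h ∧ (h : M4) (inl 0) (inl 0) = 1 ∧ mid (h : M4) = 1 := by
  have h2 : (2 : F) = 0 := CharTwo.two_eq_zero
  set N : V → V := fun v => act g v + v with hN
  have hNfix : ∀ v, act g (N v) = N v := fun v => by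
    simp only [hN]; rw [act_add, hinv, add_comm]
  have hNN : ∀ v, N (N v) = 0 := fun v => by
    show act g (N v) + N v = 0
    rw [hNfix, CharTwo.add_self_eq_zero]
  have hadd : ∀ u v, N (u + v) = N u + N v := fun u v => by
    simp only [hN]; rw [act_add]; abel
  have hsmul : ∀ (c : F) v, N (c • v) = c • N v := fun c v => by
    simp only [hN]; rw [act_smul, smul_add]
  have hsym : ∀ u v, B (N u) v = B u (N v) := by
    intro u v
    simp only [hN, B_add_left, B_add_right]
    rw [← B_act g u (act g v), hinv]
  by_cases hy : ∃ y, N y ≠ 0 ∧ B (N y) y = 0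
  · obtain ⟨y, hy0, hyQ⟩ := hy
    refine mid_one_of_fixed hy0 (hNfix y) fun x hx => ?_
    by_contra hc
    push Not at hc
    have hli : LinearIndependent F ![y, x, N y, N x] := by
      rw [Fintype.linearIndependent_iff]
      intro k hk
      simp [Fin.sum_univ_succ] at hk
      have hpair : ∀ α β : F, α • N y + β • N x = 0 → α = 0 ∧ β = 0 := by
        intro α β h
        have hβ : β = 0 := by
          by_contra hβ
          refine hc (-(α / β)) ?_
          have e := congrArg (fun v => β⁻¹ • v) h
          simp [smul_add, smul_smul, hβ] at e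
          rw [neg_smul, ← sub_eq_zero]
          show N x - _ = 0
          rw [← e, div_eq_inv_mul]
          abel
        subst hβ
        simp [hy0] at h
        exact ⟨h, rfl⟩
      have h01 : k 0 = 0 ∧ k 1 = 0 := by
        have h := congrArg N hk
        simp [hadd, hsmul, hNN] at h
        have hz : N (0 : V) = 0 := by simp [hN, act_zero]
        rw [hz] at h
        exact hpair _ _ h
      simp [h01.1, h01.2] at hk
      obtain ⟨a, b⟩ := hpair _ _ hk
      intro i
      fin_cases i <;> simp [h01.1, h01.2, a, b]
    have hsp := hli.span_eq_top_of_card_eq_finrank (by simp [Module.finrank_fintype_fun_eq_card])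
    refine hy0 (eq_zero_of_forall fun v => ?_)
    have hv : v ∈ Submodule.span F (Set.range ![y, x, N y, N x]) := by rw [hsp]; trivial
    refine Submodule.span_induction (p := fun v _ => B (N y) v = 0) ?_ (B_zero_right _)
      (fun u v _ _ hu hv => by rw [B_add_right, hu, hv, add_zero])
      (fun c u _ hu => by rw [B_smul_right, hu, mul_zero]) hv
    rintro _ ⟨i, rfl⟩
    fin_cases i <;> simp [hyQ, hx, B_self]
    rw [hsym, hNN, B_zero_right]
  · push Not at hy
    obtain ⟨v, hv⟩ : ∃ v, N v ≠ 0 := by
      by_contra hc
      push Not at hc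
      refine hg 1 (Matrix.ext_of_mulVec_single fun i => ?_)
      show act g (Pi.single i 1) = _
      rw [one_smul, Matrix.one_mulVec, CharTwo.add_eq_zero.1 (hc (Pi.single i 1))]
    refine mid_one_of_fixed hv (hNfix v) fun x _ => ?_
    rcases eq_or_ne (N x) 0 with hx | hx
    · exact ⟨0, by rw [zero_smul]; exact hx⟩
    · obtain ⟨c, hc⟩ := hsqrt (B (N x) x / B (N v) v)
      refine ⟨c, ?_⟩
      have hQ : B (N (x + c • v)) (x + c • v) = 0 := by
        have e1 : B (N v) x = B (N x) v := by rw [hsym, B_swap, CharTwo.neg_eq]
        simp only [hadd, hsmul, B_add_left, B_add_right, B_smul_left, B_smul_right, e1]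
        have h3 : c * (c * B (N v) v) = B (N x) x := by
          rw [← mul_assoc, ← sq, hc, div_mul_cancel₀ _ (hy v hv)]
        linear_combination h3 + (c * B (N x) v + B (N x) x) * h2
      have h4 : N (x + c • v) = 0 := by
        by_contra hne; exact hy _ hne hQ
      rw [hadd, hsmul, CharTwo.add_eq_zero] at h4
      exact h4

/-- Over the field of four elements the middle part is trivial or has non-zero trace. -/
theorem conj_corner_four [CharP F 2] (h4 : ∀ x : F, x ≠ 0 → x ^ 3 = 1) (ω : F) (hω0 : ω ≠ 0) (hω : ω ≠ 1)
    {g : Sp4} (hg : ∀ c : F, (g : M4) ≠ c • 1) :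
    ∃ h : Sp4, IsConj g h ∧ (h : M4) (inl 0) (inl 0) = 1 ∧
      (mid (h : M4) = 1 ∨ (mid (h : M4)).trace ≠ 0) := by
  have h2 : (2 : F) = 0 := CharTwo.two_eq_zero
  by_cases hinv : ∀ v, act g (act g v) = v
  · obtain ⟨h, hc, h0, hm⟩ := conj_mid_one (fun x => ⟨x ^ 2, by
      rcases eq_or_ne x 0 with rfl | hx
      · simp
      · rw [← pow_mul, pow_succ, h4 x hx, one_mul]⟩) hg hinv
    exact ⟨h, hc, h0, Or.inl hm⟩
  by_contra hcon
  push Not at hcon
  set T := (g : M4).trace with hT
  have htr : ∀ h : Sp4, IsConj g h → (h : M4).trace = T := by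
    intro h hc
    obtain ⟨c, rfl⟩ := isConj_iff.1 hc
    rw [hT, Submonoid.coe_mul, Matrix.trace_mul_comm, ← Submonoid.coe_mul, ← mul_assoc,
      inv_mul_cancel, one_mul]
  have fail : ∀ {e z f w : V}, Fr e z f w → B (act g e) f = 1 →
      B (act g z) w - B (act g e) w * B (act g z) f +
        (B z (act g w) - B z (act g e) * B (act g w) f) = 0 ∧
      T = 1 + B (act g z) w + B e (act g f) + B z (act g w) := by
    intro e z f w D h1
    obtain ⟨h, hc, h0, hm, ht⟩ := D.matrix g
    obtain ⟨-, h3⟩ := hcon h hc (h0.trans h1)
    rw [hm] at h3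
    refine ⟨by simpa [Matrix.trace_fin_two] using h3, ?_⟩
    rw [← htr h hc, ht, h1]
  -- for a vector not perpendicular to its image
  have moving : ∀ e, B e (act g e) ≠ 0 → (B e (act g (act g e)) = T * B e (act g e) ∧
      ∃ z w, B z w = 1 ∧ B (act g z) w + B z (act g w) = 0) := by
    intro e hd
    set d := B e (act g e) with hd'
    have hdd : B (act g e) e = d := by rw [B_swap, CharTwo.neg_eq]
    set f0 := d⁻¹ • (act g e + e) with hf0
    have hef : B e f0 = 1 := by
      rw [hf0, B_smul_right, B_add_right, B_self, add_zero, inv_mul_cancel₀ hd]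
    have hgf : B (act g e) f0 = 1 := by
      rw [hf0, B_smul_right, B_add_right, B_self, hdd, zero_add, inv_mul_cancel₀ hd]
    obtain ⟨z, w, D⟩ := exists_fr hef
    have hge : act g e = d • f0 + e := by
      rw [hf0, smul_smul, mul_inv_cancel₀ hd, one_smul, add_assoc, CharTwo.add_self_eq_zero,
        add_zero]
    have hz : B (act g e) z = 0 := by
      rw [hge, B_add_left, B_smul_left, D.fz, D.ez, mul_zero, add_zero]
    have hw : B (act g e) w = 0 := by
      rw [hge, B_add_left, B_smul_left, D.fw, D.ew, mul_zero, add_zero]
    have hzz : B z (act g e) = 0 := by rw [B_swap, hz, neg_zero]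
    obtain ⟨f1, f2⟩ := fail D hgf
    rw [hw, hzz] at f1
    have f1' : B (act g z) w + B z (act g w) = 0 := by linear_combination f1
    refine ⟨?_, z, w, D.zw, f1'⟩
    have h5 : d * B e (act g f0) = B e (act g (act g e)) + d := by
      rw [← B_smul_right, ← act_smul, hf0, smul_smul, mul_inv_cancel₀ hd, one_smul, act_add,
        B_add_right]
    linear_combination (-d) * f2 - h5 - d * f1' - d * h2
  obtain ⟨u, hu⟩ : ∃ u, B u (act g u) ≠ 0 := by
    by_contra hc
    push Not at hc
    refine hinv fun v => sub_eq_zero.1 (eq_zero_of_forall fun u => ?_)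
    have h := hc (act g v + u)
    rw [act_add, B_add_left, B_add_right, B_add_right, hc, hc, B_act, B_swap u, CharTwo.neg_eq] at h
    rw [B_sub_left, CharTwo.sub_eq_add]
    linear_combination h
  have R : ∀ v, B v (act g (act g v)) = T * B v (act g v) := by
    intro v
    by_cases hv : B v (act g v) = 0
    swap
    · exact (moving v hv).1
    set β := B v (act g u) + B u (act g v) with hβ
    set γ := B v (act g (act g u)) + B u (act g (act g v)) - T * β with hγ
    set r := B v (act g (act g v)) with hr
    have good : ∀ t : F, t ≠ 0 → t * B u (act g u) + β ≠ 0 → r + t * γ = 0 := by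
      intro t ht hne
      have e1 : B (v + t • u) (act g (v + t • u)) = t * (t * B u (act g u) + β) := by
        simp only [act_add, act_smul, B_add_left, B_add_right, B_smul_left, B_smul_right, hv, hβ]
        ring
      have h := (moving (v + t • u) (by rw [e1]; exact mul_ne_zero ht hne)).1
      rw [e1] at h
      simp only [act_add, act_smul, B_add_left, B_add_right, B_smul_left, B_smul_right] at h
      rw [hγ, hr]
      linear_combination h - t * t * (moving u hu).1
    have hω1 : ω + 1 ≠ 0 := fun e => hω (CharTwo.add_eq_zero.1 e)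
    have two : ∀ a b : F, a ≠ b → r + a * γ = 0 → r + b * γ = 0 → r = 0 := by
      intro a b hab ha hb
      have : (a - b) * γ = 0 := by linear_combination ha - hb
      rw [(mul_eq_zero.1 this).resolve_left (sub_ne_zero.2 hab), mul_zero, add_zero] at ha
      exact ha
    have root : ∀ a b : F, a ≠ b → a * B u (act g u) + β = 0 → b * B u (act g u) + β ≠ 0 :=
      fun a b hab ha hb => mul_ne_zero (sub_ne_zero.2 hab) hu (by linear_combination ha - hb)
    rw [hv, mul_zero]
    by_cases c1 : (1 : F) * B u (act g u) + β = 0
    · refine two ω (ω + 1) (fun e => one_ne_zero (left_eq_add.1 e)) ?_ ?_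
      · exact good _ hω0 (root _ _ hω.symm c1)
      · exact good _ hω1 (root _ _ (fun e => hω0 (right_eq_add.1 e)) c1)
    · by_cases c2 : ω * B u (act g u) + β = 0
      · exact two 1 (ω + 1) (fun e => hω0 (right_eq_add.1 e)) (good _ one_ne_zero c1)
          (good _ hω1 (root _ _ (fun e => one_ne_zero (left_eq_add.1 e)) c2))
      · exact two 1 ω hω.symm (good _ one_ne_zero c1) (good _ hω0 c2)
  have polar : ∀ u v, B u (act g (act g v)) + B (act g (act g u)) v =
      T * (B u (act g v) + B (act g u) v) := by
    intro u v
    have h := R (u + v)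
    simp only [act_add, B_add_left, B_add_right] at h
    rw [B_swap (act g (act g u)) v, B_swap (act g u) v, CharTwo.neg_eq, CharTwo.neg_eq]
    linear_combination h - R u - R v
  by_cases hT0 : T = 0
  · let N : Module.End F V := Matrix.mulVecLin (g : M4) + LinearMap.id
    have hN : ∀ v, N v = act g v + v := fun v => rfl
    have hg4 : ∀ v, act g (act g (act g (act g v))) = v := by
      intro v
      refine sub_eq_zero.1 (eq_zero_of_forall fun y => ?_)
      have h := polar (act g (act g v)) y
      rw [hT0, zero_mul, B_act, B_act, add_comm] at h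
      rw [B_sub_left, CharTwo.sub_eq_add]
      linear_combination h
    have hN4 : ∀ v, N (N (N (N v))) = 0 := by
      intro v
      simp only [hN, act_add, hg4]
      ext i
      simp only [Pi.add_apply, Pi.zero_apply]
      linear_combination (v i + 2 * act g v i + 3 * act g (act g v) i +
        2 * act g (act g (act g v)) i) * h2
    have Q2 : ∀ v, B v (act g (act g v)) = 0 := fun v => by rw [R, hT0, zero_mul]
    have hQ2N : ∀ v, B v (N (N v)) = 0 := by
      intro v
      simp only [hN, act_add, B_add_right, Q2, B_self]
      linear_combination (B v (act g v)) * h2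
    have hQ3N : ∀ v, B v (N (N (N v))) = 0 := by
      intro v
      simp only [hN, act_add, B_add_right, Q2, B_self]
      have h3 : B v (act g (act g (act g v))) = B v (act g v) := by
        rw [← B_act g v, hg4, B_swap, CharTwo.neg_eq]
      linear_combination h3 + 2 * (B v (act g v)) * h2
    have indep : ∀ (M : Module.End F V), (∀ v, B v (M v) = 0) → ∀ u, M u ≠ 0 →
        ∃ v, ∀ α β : F, α • M u + β • M v = 0 → α = 0 ∧ β = 0 := by
      intro M hM u hMu
      obtain ⟨v, hv⟩ := exists_partner hMu
      rw [B_swap, CharTwo.neg_eq] at hv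
      have huv : B u (M v) = 1 := by
        have h := hM (u + v)
        rw [map_add, B_add_left, B_add_right, B_add_right, hM, hM, hv] at h
        exact (CharTwo.add_eq_zero.1 (show B u (M v) + 1 = 0 by linear_combination h))
      refine ⟨v, fun α β h => ?_⟩
      have e1 := congrArg (B v) h
      have e2 := congrArg (B u) h
      rw [B_add_right, B_smul_right, B_smul_right, hv, hM, B_zero_right] at e1
      rw [B_add_right, B_smul_right, B_smul_right, huv, hM, B_zero_right] at e2
      exact ⟨by linear_combination e1, by linear_combination e2⟩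
    by_cases h3 : ∀ v, N (N (N v)) = 0
    · obtain ⟨a, ha⟩ : ∃ a, N (N a) ≠ 0 := by
        by_contra hc
        push Not at hc
        refine hinv fun v => ?_
        have h := hc v
        simp only [hN, act_add] at h
        refine CharTwo.add_eq_zero.1 (Eq.trans ?_ h)
        have h5 : act g v + act g v = 0 := CharTwo.add_self_eq_zero _
        rw [add_assoc (act g (act g v)), ← add_assoc (act g v), h5, zero_add]
      obtain ⟨b, hb⟩ := indep (N * N) hQ2N a ha
      exact five_false N (N a) (N b) a rfl (h3 a ▸ by rw [h3]) (by rw [h3]) hb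
    · push Not at h3
      obtain ⟨a, ha⟩ := h3
      obtain ⟨b, hb⟩ := indep (N * N * N) hQ3N a ha
      exact five_false N (N (N a)) (N (N b)) (N a) rfl (by rw [hN4]) (by rw [hN4]) hb
  · by_cases hfix : ∃ e, e ≠ 0 ∧ act g e = e
    · obtain ⟨e, he, hge⟩ := hfix
      obtain ⟨f, hf⟩ := exists_partner he
      obtain ⟨z, w, D⟩ := exists_fr hf
      obtain ⟨f1, f2⟩ := fail D (by rw [hge, hf])
      have h6 : B e (act g f) = 1 := by rw [← hge, B_act, hf]
      have hze : B z e = 0 := by rw [B_swap, D.ez, neg_zero]
      rw [hge, D.ew, hze] at f1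
      rw [h6] at f2
      exact hT0 (by linear_combination f2 + f1 + h2)
    · push Not at hfix
      have hzero : ∀ x, act g x + x = 0 → x = 0 := fun x hx => by
        by_contra hne; exact hfix x hne (CharTwo.add_eq_zero.1 hx)
      have hg4 : ∀ v, act g (act g (act g (act g v))) + v +
          T • (act g (act g (act g v)) + act g v) = 0 := by
        intro v
        refine eq_zero_of_forall fun y => ?_
        have h := polar (act g (act g v)) y
        rw [B_act, B_act] at h
        have h7 : B (act g (act g v)) (act g y) = B (act g v) y := B_act _ _ _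
        rw [h7] at h
        simp only [B_add_left, B_smul_left]
        linear_combination h + (T * (B (act g v) y + B (act g (act g (act g v))) y)) * h2
      have hquad : ∀ v, act g (act g v) + T • act g v + v = 0 := by
        intro v
        set y := act g (act g v) + T • act g v + v with hy
        have h8 : act g (act g y + y) + (act g y + y) = 0 := by
          rw [← hg4 v, hy]
          simp only [act_add, act_smul, smul_add]
          ext i
          simp only [Pi.add_apply, Pi.smul_apply, smul_eq_mul]
          linear_combination (act g (act g (act g v)) i + act g (act g v) i + act g v i +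
            T * act g (act g v) i) * h2
        exact hzero y (hzero _ h8)
      obtain ⟨-, z, w, hzw, h9⟩ := moving u hu
      have h10 : B (act g z) (act g (act g w)) = B z (act g w) := B_act _ _ _
      have h11 : act g (act g w) = T • act g w + w := by
        have h := hquad w
        rw [add_assoc] at h
        exact CharTwo.add_eq_zero.1 h
      rw [h11, B_add_right, B_smul_right, B_act, hzw, mul_one] at h10
      exact hT0 (by linear_combination h10 + h9 - B (act g z) w * h2)

end Cfsg.Lib.Linear.SpFourCover
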