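import Mathlib

/-!
# The alternating form on `F⁴` and changes of symplectic frame
-/

set_option autoImplicit false

namespace Cfsg.Lib.Linear.SpFourCover

open Matrix Sum

variable {F : Type*} [Field F]

local notation "ι" => (Fin 2 ⊕ Fin 2)
local notation "V" => (Fin 2 ⊕ Fin 2 → F)
local notation "M4" => Matrix (Fin 2 ⊕ Fin 2) (Fin 2 ⊕ Fin 2) F
local notation "Sp4" => Matrix.symplecticGroup (Fin 2) F

/-- The alternating form. -/
def B (u v : V) : F :=
  u (inl 0) * v (inr 0) - u (inr 0) * v (inl 0) + u (inl 1) * v (inr 1) - u (inr 1) * v (inl 1)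

/-- The action. -/
abbrev act (g : Sp4) (v : V) : V := (g : M4) *ᵥ v

theorem B_add_left (u u' v : V) : B (u + u') v = B u v + B u' v := by simp [B]; ring
theorem B_add_right (u v v' : V) : B u (v + v') = B u v + B u v' := by simp [B]; ring
theorem B_sub_left (u u' v : V) : B (u - u') v = B u v - B u' v := by simp [B]; ring
theorem B_sub_right (u v v' : V) : B u (v - v') = B u v - B u v' := by simp [B]; ring
theorem B_smul_left (c : F) (u v : V) : B (c • u) v = c * B u v := by simp [B]; ring
theorem B_smul_right (c : F) (u v : V) : B u (c • v) = c * B u v := by simp [B]; ring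
theorem B_neg_left (u v : V) : B (-u) v = -B u v := by simp [B]; ring
theorem B_neg_right (u v : V) : B u (-v) = -B u v := by simp [B]; ring
theorem B_zero_left (v : V) : B 0 v = 0 := by simp [B]
theorem B_zero_right (v : V) : B v 0 = 0 := by simp [B]
theorem B_self (v : V) : B v v = 0 := by simp [B]; ring
theorem B_swap (u v : V) : B u v = -B v u := by simp [B]; ring

theorem B_eq (u v : V) : B u v = -(u ⬝ᵥ (Matrix.J (Fin 2) F *ᵥ v)) := by
  simp [B, Matrix.J, Matrix.fromBlocks_mulVec, dotProduct, Fintype.sum_sum_type, Fin.sum_univ_two,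
    Matrix.neg_mulVec, Matrix.one_mulVec, Matrix.zero_mulVec]
  ring

theorem B_act (g : Sp4) (u v : V) : B (act g u) (act g v) = B u v := by
  rw [B_eq, B_eq]
  congr 1
  rw [Matrix.mulVec_mulVec, show act g u = u ᵥ* (g : M4)ᵀ from (Matrix.vecMul_transpose _ _).symm,
    ← Matrix.dotProduct_mulVec, Matrix.mulVec_mulVec, ← Matrix.mul_assoc, SymplecticGroup.mem_iff'.1 g.2]

theorem act_mul (g g' : Sp4) (v : V) : act (g * g') v = act g (act g' v) := by
  simp [act, Matrix.mulVec_mulVec]

theorem act_add (g : Sp4) (u v : V) : act g (u + v) = act g u + act g v := Matrix.mulVec_add _ _ _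
theorem act_sub (g : Sp4) (u v : V) : act g (u - v) = act g u - act g v := Matrix.mulVec_sub _ _ _
theorem act_smul (g : Sp4) (c : F) (v : V) : act g (c • v) = c • act g v := Matrix.mulVec_smul _ _ _
theorem act_zero (g : Sp4) : act g (0 : V) = 0 := Matrix.mulVec_zero _

theorem exists_partner {u : V} (hu : u ≠ 0) : ∃ v, B u v = 1 := by
  obtain ⟨i, hi⟩ := Function.ne_iff.1 hu
  rcases i with i | i <;> fin_cases i
  · exact ⟨Pi.single (inr 0) (u (inl 0))⁻¹, by simp [B] at hi ⊢; exact mul_inv_cancel₀ hi⟩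
  · exact ⟨Pi.single (inr 1) (u (inl 1))⁻¹, by simp [B] at hi ⊢; exact mul_inv_cancel₀ hi⟩
  · exact ⟨Pi.single (inl 0) (-(u (inr 0))⁻¹), by simp [B] at hi ⊢; exact mul_inv_cancel₀ hi⟩
  · exact ⟨Pi.single (inl 1) (-(u (inr 1))⁻¹), by simp [B] at hi ⊢; exact mul_inv_cancel₀ hi⟩

theorem eq_zero_of_forall {u : V} (h : ∀ v, B u v = 0) : u = 0 := by
  by_contra hu
  obtain ⟨v, hv⟩ := exists_partner hu
  exact one_ne_zero (hv.symm.trans (h v))

theorem exists_two {u w : V} (hu : u ≠ 0) (hw : ∀ c : F, w ≠ c • u) (s t : F) :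
    ∃ f, B u f = s ∧ B w f = t := by
  obtain ⟨v, hv⟩ := exists_partner hu
  obtain ⟨v', hv'⟩ := exists_partner (u := w - B w v • u) fun e => hw _ (sub_eq_zero.1 e)
  rw [B_sub_left, B_smul_left] at hv'
  refine ⟨s • v + (t - s * B w v) • (v' - B u v' • v), ?_, ?_⟩
  · simp only [B_add_right, B_smul_right, B_sub_right, hv]; ring
  · simp only [B_add_right, B_smul_right, B_sub_right]; linear_combination (t - s * B w v) * hv'

/-- A symplectic pair has a symplectic pair perpendicular to it. -/
theorem exists_perp {e f : V} (h : B e f = 1) :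
    ∃ z w, B e z = 0 ∧ B f z = 0 ∧ B e w = 0 ∧ B f w = 0 ∧ B z w = 1 := by
  set π : V → V := fun u => u - B u f • e - B e u • f with hπ
  have h1 : ∀ u, B e (π u) = 0 ∧ B f (π u) = 0 := fun u => by
    constructor <;> simp only [hπ, B_sub_right, B_smul_right, B_self]
    · rw [h]; ring
    · rw [B_swap f e, h, B_swap f u]; ring
  obtain ⟨z, hz0, hz1, hz2⟩ : ∃ z, z ≠ 0 ∧ B e z = 0 ∧ B f z = 0 := by
    by_contra hc
    push Not at hc
    have hall : ∀ i, (Pi.single i (1 : F) : V) = B (Pi.single i 1) f • e + B e (Pi.single i 1) • f := by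
      intro i
      have h2 : π (Pi.single i 1) = 0 := by
        by_contra hne
        exact hc _ hne (h1 _).1 (h1 _).2
      simp only [hπ, sub_sub, sub_eq_zero] at h2
      exact h2
    set α : ι → F := fun i => B (Pi.single i (1 : F) : V) f with hα
    set β : ι → F := fun i => B e (Pi.single i (1 : F) : V) with hβ
    have key : ∀ i j, B (Pi.single i (1 : F) : V) (Pi.single j 1) = α i * β j - β i * α j := by
      intro i j
      rw [hall i, hall j]
      simp only [B_add_left, B_add_right, B_smul_left, B_smul_right, B_self, h, B_swap f e]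
      ring
    have k02 := key (inl 0) (inr 0)
    have k13 := key (inl 1) (inr 1)
    have k01 := key (inl 0) (inl 1)
    have k03 := key (inl 0) (inr 1)
    simp [B] at k02 k13 k01 k03
    exact one_ne_zero (α := F) (by linear_combination k02 + (α (inl 0) * β (inr 0) -
      β (inl 0) * α (inr 0)) * k13 - (α (inl 1) * β (inr 0) - β (inl 1) * α (inr 0)) * k03 +
      -(α (inr 0) * β (inr 1) - β (inr 0) * α (inr 1)) * k01)
  obtain ⟨v, hv⟩ := exists_partner hz0
  refine ⟨z, π v, hz1, hz2, (h1 v).1, (h1 v).2, ?_⟩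
  simp only [hπ, B_sub_right, B_smul_right, B_swap z e, B_swap z f, hz1, hz2, hv]
  ring

/-- A symplectic frame. -/
structure Fr (e z f w : V) : Prop where
  ef : B e f = 1
  zw : B z w = 1
  ez : B e z = 0
  ew : B e w = 0
  fz : B f z = 0
  fw : B f w = 0

/-- The two-by-two part of a matrix with corner one. -/
def mid (h : M4) : Matrix (Fin 2) (Fin 2) F :=
  !![h (inl 1) (inl 1) - h (inl 1) (inl 0) * h (inl 0) (inl 1),
     h (inl 1) (inr 1) - h (inl 1) (inl 0) * h (inl 0) (inr 1);
     h (inr 1) (inl 1) - h (inr 1) (inl 0) * h (inl 0) (inl 1),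
     h (inr 1) (inr 1) - h (inr 1) (inl 0) * h (inl 0) (inr 1)]

theorem Fr.matrix {e z f w : V} (D : Fr e z f w) (g : Sp4) :
    ∃ h : Sp4, IsConj g h ∧ (h : M4) (inl 0) (inl 0) = B (act g e) f ∧
      mid (h : M4) = !![B (act g z) w - B (act g e) w * B (act g z) f,
        B (act g w) w - B (act g e) w * B (act g w) f;
        B z (act g z) - B z (act g e) * B (act g z) f,
        B z (act g w) - B z (act g e) * B (act g w) f] ∧
      (h : M4).trace = B (act g e) f + B (act g z) w + B e (act g f) + B z (act g w) := by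
  let col : ι → V := Sum.elim ![e, z] ![f, w]
  let P : M4 := Matrix.of fun i j => col j i
  have hfe : B f e = -1 := by rw [B_swap, D.ef]
  have hwz : B w z = -1 := by rw [B_swap, D.zw]
  have hcol : ∀ i j, B (col i) (col j) = B (Pi.single i (1 : F) : V) (Pi.single j 1) := by
    have hze : B z e = 0 := by rw [B_swap, D.ez, neg_zero]
    have hwe : B w e = 0 := by rw [B_swap, D.ew, neg_zero]
    have hzf : B z f = 0 := by rw [B_swap, D.fz, neg_zero]
    have hwf : B w f = 0 := by rw [B_swap, D.fw, neg_zero]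
    rintro (i | i) (j | j) <;> fin_cases i <;> fin_cases j <;>
      simp [col, B_self, D.ef, D.zw, D.ez, D.ew, D.fz, D.fw, hfe, hwz, hze, hwe, hzf, hwf] <;>
      simp [B]
  have hP : ∀ i, P *ᵥ Pi.single i 1 = col i := fun i => by
    rw [Matrix.mulVec_single_one]; rfl
  have hPm : P ∈ Matrix.symplecticGroup (Fin 2) F := by
    rw [SymplecticGroup.mem_iff']
    ext i j
    have h1 := hcol i j
    rw [B_eq, B_eq, neg_inj, ← hP i, ← hP j, Matrix.mulVec_mulVec, ← Matrix.vecMul_transpose,
      ← Matrix.dotProduct_mulVec, Matrix.mulVec_mulVec, ← Matrix.mul_assoc] at h1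
    simpa using h1
  let P' : Sp4 := ⟨P, hPm⟩
  refine ⟨P'⁻¹ * g * P', isConj_iff.2 ⟨P'⁻¹, by rw [inv_inv]⟩, ?_⟩
  set h := P'⁻¹ * g * P' with hh
  have hact : ∀ i j, B (act h (Pi.single i 1)) (Pi.single j 1) = B (act g (col i)) (col j) := by
    intro i j
    rw [← B_act P', ← act_mul, hh, mul_assoc, ← mul_assoc P', mul_inv_cancel, one_mul, act_mul]
    show B (act g (P *ᵥ Pi.single i 1)) (P *ᵥ Pi.single j 1) = _
    rw [hP, hP]
  have r0 : ∀ j, (h : M4) (inl 0) j = B (act g (col j)) f := fun j => by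
    rw [show f = col (inr 0) from rfl, ← hact]; simp [B, act]
  have r1 : ∀ j, (h : M4) (inl 1) j = B (act g (col j)) w := fun j => by
    rw [show w = col (inr 1) from rfl, ← hact]; simp [B, act]
  have r2 : ∀ j, (h : M4) (inr 0) j = B e (act g (col j)) := fun j => by
    rw [B_swap, show e = col (inl 0) from rfl, ← hact]; simp [B, act]
  have r3 : ∀ j, (h : M4) (inr 1) j = B z (act g (col j)) := fun j => by
    rw [B_swap, show z = col (inl 1) from rfl, ← hact]; simp [B, act]
  refine ⟨r0 _, ?_, ?_⟩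
  · simp [mid, r0, r1, r3, col]
  · simp only [Matrix.trace, Matrix.diag, Fintype.sum_sum_type, Fin.sum_univ_two, r0, r1, r2, r3]
    simp [col]
    ring

theorem exists_fr {e f : V} (h : B e f = 1) : ∃ z w, Fr e z f w := by
  obtain ⟨z, w, h1, h2, h3, h4, h5⟩ := exists_perp h
  exact ⟨z, w, h, h5, h1, h3, h2, h4⟩

theorem exists_moved {g : Sp4} (h : ∀ c : F, (g : M4) ≠ c • 1) :
    ∃ v : V, v ≠ 0 ∧ ∀ c : F, act g v ≠ c • v := by
  by_contra hc
  push Not at hc
  have hd : ∀ i, ∃ c : F, ∀ k, (g : M4) k i = if k = i then c else 0 := fun i => by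
    obtain ⟨c, hc⟩ := hc (Pi.single i 1) (Pi.single_ne_zero_iff.2 one_ne_zero)
    refine ⟨c, fun k => ?_⟩
    have := congrFun hc k
    simp [act, Pi.single_apply] at this
    simpa using this
  choose c hc' using hd
  refine h (c (inl 0)) ?_
  have hs : ∀ i, c i = c (inl 0) := fun i => by
    rcases eq_or_ne i (inl 0) with rfl | hi
    · rfl
    · obtain ⟨d, hd⟩ := hc (Pi.single i 1 + Pi.single (inl 0) 1) (fun e => by
        simpa [hi] using congrFun e i)
      have e1 := congrFun hd i
      have e2 := congrFun hd (inl 0)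
      simp [act, Matrix.mulVec_add, hc', hi, Ne.symm hi] at e1 e2
      rw [e1, e2]
  ext k i
  rw [hc' i k, hs i]
  rcases eq_or_ne k i with rfl | hk <;> simp [*]

end Cfsg.Lib.Linear.SpFourCover
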