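import Mathlib

/-!
# Facts about two-by-two matrices over three and five elements
-/

set_option autoImplicit false
set_option maxRecDepth 100000

namespace Cfsg.Lib.Linear.SpFourCover

theorem three_zmod : ∀ a b c d : ZMod 3, a * d - b * c = 1 → ∃ m n o l : ZMod 3,
    m * l - n * o = -1 ∧ o ≠ 0 ∧ (m + l) * (m + l) = 1 ∧
    (-(-o * a + m * c)) ≠ 0 ∧
    (-(l * a - n * c) - (-o * b + m * d)) * (-(l * a - n * c) - (-o * b + m * d)) = 1 := by
  decide +kernel

theorem five_zmod : ∀ a b c d : ZMod 5, a * d - b * c = 1 → ∃ m n o : ZMod 5,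
    m * (-1 - m) - n * o = 1 ∧
    (((-1 - m) * a - n * c + (-o * b + m * d)) = -1 ∨ ((-1 - m) * a - n * c + (-o * b + m * d)) = 1) := by
  decide +kernel

theorem five_rep : ∀ m n o : ZMod 5, m * (-1 - m) - n * o = 1 → ∃ x y : ZMod 5,
    x * (o * x + (-1 - m) * y) - y * (m * x + n * y) = 1 := by
  decide +kernel

end Cfsg.Lib.Linear.SpFourCover
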