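import Cfsg.Agent.Lib.Linear.SpFourCover.Cases
import Cfsg.Agent.Lib.Linear.SpFourCover.Small

/-!
# The square of a semisimple class of `PSp(4,q)` covers the non-trivial elements
-/

set_option autoImplicit false
set_option linter.unusedSimpArgs false
set_option linter.unusedSectionVars false

namespace Cfsg.Lib.Linear.SpFourCover

open Matrix Sum
open Cfsg.Lib.Chev.B2Sp (sp4 sp4_mul sp4_transpose J_eq sp4_one)
open Cfsg.Lib.Linear.ShortPres.Four (ia ib ia_coe ib_coe det_eq)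
open scoped MatrixGroups

variable {F : Type*} [Field F] [Fintype F]

local notation "ι" => (Fin 2 ⊕ Fin 2)
local notation "M4" => Matrix (Fin 2 ⊕ Fin 2) (Fin 2 ⊕ Fin 2) F
local notation "Sp4" => Matrix.symplecticGroup (Fin 2) F

theorem sl_corner (y : SL(2, F)) (hy : (y.1 : Matrix (Fin 2) (Fin 2) F) = -1 → (2 : F) = 0) :
    ∃ r : SL(2, F), (r * y * r⁻¹).1 0 0 = 1 := by
  have hdet := det_eq y
  have key : ∀ z : SL(2, F), z.1 1 0 ≠ 0 → ∃ r : SL(2, F), (r * z * r⁻¹).1 0 0 = 1 := by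
    intro z hz
    obtain ⟨r, hr⟩ : ∃ r : SL(2, F), r.1 = !![1, (1 - z.1 0 0) / z.1 1 0; 0, 1] :=
      ⟨⟨_, by simp [Matrix.det_fin_two]⟩, rfl⟩
    refine ⟨r, ?_⟩
    simp [Matrix.SpecialLinearGroup.coe_inv, Matrix.adjugate_fin_two, Matrix.mul_apply,
      Fin.sum_univ_two, hr, Matrix.vecMul, dotProduct]
    field_simp
    ring
  have move : ∀ s : SL(2, F), (s * y * s⁻¹).1 1 0 ≠ 0 → ∃ r : SL(2, F), (r * y * r⁻¹).1 0 0 = 1 := by
    intro s hs
    obtain ⟨r, hr⟩ := key _ hs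
    exact ⟨r * s, by rwa [show r * s * y * (r * s)⁻¹ = r * (s * y * s⁻¹) * r⁻¹ by group]⟩
  by_cases h1 : y.1 1 0 = 0
  swap
  · exact key y h1
  by_cases h2 : y.1 0 1 = 0
  swap
  · obtain ⟨r, hr⟩ : ∃ r : SL(2, F), r.1 = !![0, -1; 1, 0] :=
      ⟨⟨_, by simp [Matrix.det_fin_two]⟩, rfl⟩
    refine move r ?_
    simpa [Matrix.SpecialLinearGroup.coe_inv, Matrix.adjugate_fin_two, Matrix.mul_apply,
      Fin.sum_univ_two, hr, Matrix.vecMul, dotProduct] using h2
  by_cases h3 : y.1 0 0 = y.1 1 1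
  swap
  · obtain ⟨r, hr⟩ : ∃ r : SL(2, F), r.1 = !![1, 0; 1, 1] :=
      ⟨⟨_, by simp [Matrix.det_fin_two]⟩, rfl⟩
    refine move r ?_
    intro e
    refine h3 ?_
    simp [Matrix.SpecialLinearGroup.coe_inv, Matrix.adjugate_fin_two, Matrix.mul_apply,
      Fin.sum_univ_two, hr, h1, h2, Matrix.vecMul, dotProduct] at e
    linear_combination e
  have hsq : y.1 0 0 * y.1 0 0 = 1 := by
    rw [h1, h2, ← h3] at hdet; linear_combination hdet
  refine ⟨1, ?_⟩
  simp only [one_mul, inv_one, mul_one]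
  rcases mul_self_eq_one_iff.1 hsq with h | h
  · exact h
  · have h0 := hy (by
      ext i j
      fin_cases i <;> fin_cases j <;> simp [h1, h2, h, ← h3])
    linear_combination h - h0

/-- Lower times upper triangular, up to conjugacy. -/
theorem exists_lu {g : Sp4} (hg : g ∉ Subgroup.center Sp4) :
    ∃ l ∈ Low (F := F) d₃, ∃ u ∈ Low (F := F) (-d₃), IsConj g (l * u) := by
  have hs := ne_scalar_of_not_center hg
  obtain ⟨h, hgh, h0, hm⟩ : ∃ h : Sp4, IsConj g h ∧ (h : M4) (inl 0) (inl 0) = 1 ∧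
      (mid (h : M4) = -1 → (2 : F) = 0) := by
    by_cases h2 : (2 : F) = 0
    · obtain ⟨h, hgh, h0⟩ := conj_corner hs
      exact ⟨h, hgh, h0, fun _ => h2⟩
    · obtain ⟨h, hgh, h0, hne⟩ := conj_corner_odd h2 hs
      exact ⟨h, hgh, h0, fun e => absurd e hne⟩
  obtain ⟨l, hl, u, hu, y, hy, he⟩ := exists_factor h0
  obtain ⟨r, hr⟩ := sl_corner y (hy ▸ hm)
  set y' := r * y * r⁻¹ with hy'
  have hd' := det_eq y'
  rw [hr] at hd'
  obtain ⟨yl, hyl⟩ : ∃ z : SL(2, F), z.1 = !![1, 0; y'.1 1 0, 1] :=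
    ⟨⟨_, by simp [Matrix.det_fin_two]⟩, rfl⟩
  obtain ⟨yu, hyu⟩ : ∃ z : SL(2, F), z.1 = !![1, y'.1 0 1; 0, 1] :=
    ⟨⟨_, by simp [Matrix.det_fin_two]⟩, rfl⟩
  have hlu : y' = yl * yu := by
    refine Subtype.ext ?_
    show y'.1 = yl.1 * yu.1
    rw [hyl, hyu]
    ext i j
    fin_cases i <;> fin_cases j <;> simp [Matrix.mul_apply, Fin.sum_univ_two, hr, Matrix.vecMul, dotProduct]
    linear_combination hd'
  refine ⟨ib r * l * (ib r)⁻¹ * ib yl, mul_mem (low_mono le13 (low_conj (ib_blk r) hl)) ?_,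
    ib yu * (ib r * u * (ib r)⁻¹), mul_mem ?_ (low_mono le13' (low_conj (mem_blk_neg.2 (ib_blk r)) hu)), ?_⟩
  · exact ib_low (by simp [hyl]) (by simp [hyl]) (by simp [hyl])
  · exact ib_upp (by simp [hyu]) (by simp [hyu]) (by simp [hyu])
  · refine hgh.trans (isConj_iff.2 ⟨ib r, ?_⟩)
    have hib : ib yl * ib yu = ib r * ib y * (ib r)⁻¹ := by
      rw [← map_mul, ← hlu, hy', map_mul, map_mul, map_inv]
    calc ib r * h * (ib r)⁻¹ = ib r * l * (ib r)⁻¹ * (ib r * ib y * (ib r)⁻¹) * (ib r * u * (ib r)⁻¹) := by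
          rw [he]; group
      _ = _ := by rw [← hib]; group

theorem good_large {a b : F} (ha : a ≠ 0) (hb : b ≠ 0) (h1 : a ≠ b) (h2 : a * a ≠ 1)
    (h3 : b * b ≠ 1) (h4 : a * b ≠ 1) {g : Sp4} (hg : g ∉ Subgroup.center Sp4) :
    Good (torEl a b ha hb) g := by
  obtain ⟨l, hl, u, hu, hc⟩ := exists_lu hg
  refine Good.of_conj hc ?_
  have f2 : Free (-d₃) (torEl a b ha hb)⁻¹ := by
    rw [torEl_inv]
    refine torEl_free _ _ (fun e => h1 (inv_injective e)) ?_ ?_ ?_ <;> rw [← mul_inv, ne_eq, inv_eq_one]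
    exacts [h2, h3, h4]
  have e : l * u = l * (torEl a b ha hb * (torEl a b ha hb)⁻¹) * u := by group
  rw [e]
  refine good_of_factor (torEl_free ha hb h1 h2 h3 h4) f2 hl hu (IsConj.refl _) (one_mem _) ?_
  rw [mul_one, torEl_inv]
  exact torEl_swap a b ha hb

/-- The element of a line stabiliser. -/
def lnEl (M : Matrix (Fin 2) (Fin 2) F) (hM : M.det ≠ 0) : Sp4 :=
  ⟨sp4 (M 0 0) (M 0 1) 0 0 (M 1 0) (M 1 1) 0 0 0 0 (M 1 1 / M.det) (-M 1 0 / M.det) 0 0
    (-M 0 1 / M.det) (M 0 0 / M.det), by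
    rw [SymplecticGroup.mem_iff, J_eq, sp4_transpose, sp4_mul, sp4_mul]
    have := hM
    rw [Matrix.det_fin_two] at this ⊢
    congr 1 <;> grind⟩

theorem lnEl_blk (M : Matrix (Fin 2) (Fin 2) F) (hM : M.det ≠ 0) : lnEl M hM ∈ Blk d₂ := by
  intro i j h
  show sp4 _ _ _ _ _ _ _ _ _ _ _ _ _ _ _ _ i j = 0
  rcases i with i | i <;> rcases j with j | j <;> fin_cases i <;> fin_cases j <;>
    simp [sp4, d₂] at h ⊢

theorem lnEl_mul (M N P : Matrix (Fin 2) (Fin 2) F) (hM : M.det ≠ 0) (hN : N.det ≠ 0)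
    (hP : P.det ≠ 0) (e : P = M * N) : lnEl M hM * lnEl N hN = lnEl P hP := by
  subst e
  refine Subtype.ext ?_
  simp only [lnEl, Submonoid.coe_mul, sp4_mul]
  have hdM := hM
  have hdN := hN
  rw [Matrix.det_fin_two] at hdM hdN
  simp only [Matrix.det_mul, Matrix.det_fin_two, Matrix.mul_apply, Fin.sum_univ_two]
  congr 1 <;> first | ring1 | (field_simp; ring)

/-- The element of order eight over three elements. -/
def octEl : Sp4 := lnEl !![0, 1; 1, 1] (by simp [Matrix.det_fin_two])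

theorem octEl_free (h2 : (2 : F) ≠ 0) : Free d₂ (octEl (F := F)) ∧ Free (-d₂) (octEl (F := F)) := by
  have hx : (octEl (F := F) : M4) = sp4 0 1 0 0 1 1 0 0 0 0 (-1) 1 0 0 1 0 := by
    simp [octEl, lnEl, Matrix.det_fin_two]
  have two : ∀ t : F, t + t = 0 → t = 0 := fun t ht =>
    (mul_eq_zero.1 (show (2 : F) * t = 0 by linear_combination ht)).resolve_left h2
  refine ⟨⟨lnEl_blk _ _, fun n hn he => ?_⟩, ⟨mem_blk_neg.2 (lnEl_blk _ _), fun n hn he => ?_⟩⟩
  · have he' := congrArg (fun x : Sp4 => (x : M4)) he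
    simp only [Submonoid.coe_mul, hx] at he'
    simp only [← Matrix.ext_iff, Sum.forall, Fin.forall_fin_two, Matrix.mul_apply,
      Fintype.sum_sum_type, Fin.sum_univ_two] at he'
    have z : ∀ i j, d₂ i ≤ d₂ j → (n : M4) i j = if i = j then 1 else 0 := hn
    simp (discharger := decide) [sp4, z] at he'
    refine Subtype.ext ?_
    show _ = (1 : M4)
    rw [sp4_eta (n : M4), ← sp4_one]
    have k0 : (n : M4) (inr 0) (inl 0) = 0 := two _ (by grind)
    have k3 : (n : M4) (inr 1) (inl 1) = 0 := by grind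
    have k1 : (n : M4) (inr 0) (inl 1) = 0 := two _ (by grind)
    have k2 : (n : M4) (inr 1) (inl 0) = 0 := by grind
    simp (discharger := decide) [z, k0, k1, k2, k3]
  · have he' := congrArg (fun x : Sp4 => (x : M4)) he
    simp only [Submonoid.coe_mul, hx] at he'
    simp only [← Matrix.ext_iff, Sum.forall, Fin.forall_fin_two, Matrix.mul_apply,
      Fintype.sum_sum_type, Fin.sum_univ_two] at he'
    have z : ∀ i j, (-d₂) i ≤ (-d₂) j → (n : M4) i j = if i = j then 1 else 0 := hn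
    simp (discharger := decide) [sp4, z] at he'
    refine Subtype.ext ?_
    show _ = (1 : M4)
    rw [sp4_eta (n : M4), ← sp4_one]
    have k0 : (n : M4) (inl 0) (inr 0) = 0 := by grind
    have k3 : (n : M4) (inl 1) (inr 1) = 0 := by grind
    have k1 : (n : M4) (inl 0) (inr 1) = 0 := by grind
    have k2 : (n : M4) (inl 1) (inr 0) = 0 := by grind
    simp (discharger := decide) [z, k0, k1, k2, k3]

theorem low_three_two {n : Sp4} (hn : n ∈ Low d₃) (h : (n : M4) (inl 1) (inl 0) = 0) : n ∈ Low d₂ := by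
  have e := SymplecticGroup.mem_iff'.1 n.2
  have e23 := congrFun (congrFun e (inl 0)) (inr 1)
  have z : ∀ i j, d₃ i ≤ d₃ j → (n : M4) i j = if i = j then 1 else 0 := hn
  simp [Matrix.mul_apply, Fintype.sum_sum_type, Fin.sum_univ_two, Matrix.J] at e23
  simp (discharger := decide) [z, h] at e23
  intro i j hij
  rcases i with i | i <;> rcases j with j | j <;> fin_cases i <;> fin_cases j <;>
    simp [d₂] at hij ⊢ <;> first | exact h | exact e23 | (simp (discharger := decide) [z])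

theorem low_three_two' {n : Sp4} (hn : n ∈ Low (-d₃)) (h : (n : M4) (inl 0) (inl 1) = 0) :
    n ∈ Low (-d₂) := by
  have e := SymplecticGroup.mem_iff'.1 n.2
  have e32 := congrFun (congrFun e (inl 1)) (inr 0)
  have z : ∀ i j, (-d₃) i ≤ (-d₃) j → (n : M4) i j = if i = j then 1 else 0 := hn
  simp [Matrix.mul_apply, Fintype.sum_sum_type, Fin.sum_univ_two, Matrix.J] at e32
  simp (discharger := decide) [z, h] at e32
  intro i j hij
  rcases i with i | i <;> rcases j with j | j <;> fin_cases i <;> fin_cases j <;>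
    simp [d₂] at hij ⊢ <;> first | exact h | exact e32 | (simp (discharger := decide) [z])

theorem Free.mul_central {d : ι → ℤ} {x z : Sp4} (hf : Free d x) (hzb : z ∈ Blk d)
    (hzc : z ∈ Subgroup.center Sp4) : Free d (x * z) := by
  refine ⟨mul_mem hf.1 hzb, fun n hn he => hf.2 n hn (mul_right_cancel (b := z) ?_)⟩
  rw [mul_assoc, he, mul_assoc, mul_assoc, Subgroup.mem_center_iff.1 hzc n]

theorem conj_oct (p r s v e : F) (hr : r ≠ 0) (hdet : p * v - s * r = -1) (htr : p + v = e)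
    (hee : e * e = 1) : ∃ R : Sp4, R ∈ Blk d₂ ∧ R ∈ Blk (-d₂) ∧ ((R * octEl * R⁻¹ : Sp4) : M4) =
      sp4 (e * p) (e * s) 0 0 (e * r) (e * v) 0 0 0 0 (-(e * v)) (e * r) 0 0 (e * s) (-(e * p)) := by
  have he0 : e ≠ 0 := fun h => by simp [h] at hee
  have hR : (!![1, e * p; 0, e * r] : Matrix (Fin 2) (Fin 2) F).det ≠ 0 := by
    simp [Matrix.det_fin_two, he0, hr]
  refine ⟨lnEl _ hR, lnEl_blk _ _, mem_blk_neg.2 (lnEl_blk _ _), ?_⟩
  have hP : (!![e * p, e * s; e * r, e * v] : Matrix (Fin 2) (Fin 2) F).det = -1 := by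
    simp [Matrix.det_fin_two]; linear_combination (e * e) * hdet - hee
  have hP0 : (!![e * p, e * s; e * r, e * v] : Matrix (Fin 2) (Fin 2) F).det ≠ 0 := by
    rw [hP]; exact neg_ne_zero.2 one_ne_zero
  have hQ : (!![e * p, e * s; e * r, e * v] * !![1, e * p; 0, e * r] :
      Matrix (Fin 2) (Fin 2) F).det ≠ 0 := by
    rw [Matrix.det_mul]; exact mul_ne_zero hP0 hR
  have e1 : (lnEl _ hR : Sp4) * octEl * (lnEl _ hR)⁻¹ = lnEl _ hP0 := by
    rw [mul_inv_eq_iff_eq_mul, octEl, lnEl_mul _ _ _ _ _ hQ, lnEl_mul _ _ _ _ _ hQ rfl]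
    ext i j
    fin_cases i <;> fin_cases j <;> simp [Matrix.mul_apply, Fin.sum_univ_two] <;> grind
  rw [e1]
  simp only [lnEl, hP]
  congr 1 <;> simp [div_neg, neg_div]

theorem good_three (hcard : Fintype.card F = 3) {g : Sp4} (hg : g ∉ Subgroup.center Sp4) :
    Good (octEl (F := F)) g := by
  classical
  have h23 : (2 : ZMod 3) ≠ 0 := by decide
  haveI : Fact (Nat.Prime 3) := ⟨Nat.prime_three⟩
  let φ : ZMod 3 ≃+* F := ZMod.ringEquivOfPrime F Nat.prime_three hcard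
  have h2 : (2 : F) ≠ 0 := fun e => by
    have : (2 : ZMod 3) = 0 := φ.injective (by rw [map_ofNat, e, map_zero])
    exact h23 this
  obtain ⟨l, hl, u, hu, hc⟩ := exists_lu hg
  refine Good.of_conj hc ?_
  set c := (l : M4) (inl 1) (inl 0) with hcd
  set b := (u : M4) (inl 0) (inl 1) with hbd
  obtain ⟨yl, hyl⟩ : ∃ z : SL(2, F), z.1 = !![1, 0; c, 1] := ⟨⟨_, by simp [Matrix.det_fin_two]⟩, rfl⟩
  obtain ⟨yu, hyu⟩ : ∃ z : SL(2, F), z.1 = !![1, b; 0, 1] := ⟨⟨_, by simp [Matrix.det_fin_two]⟩, rfl⟩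
  have hil : (ia yl)⁻¹ ∈ Low d₃ := inv_mem (by
    intro i j h
    rw [ia_coe, hyl]
    rcases i with i | i <;> rcases j with j | j <;> fin_cases i <;> fin_cases j <;>
      simp [sp4, d₃] at h ⊢)
  have hiu : (ia yu)⁻¹ ∈ Low (-d₃) := inv_mem (by
    intro i j h
    rw [ia_coe, hyu]
    rcases i with i | i <;> rcases j with j | j <;> fin_cases i <;> fin_cases j <;>
      simp [sp4, d₃] at h ⊢)
  have hl2 : l * (ia yl)⁻¹ ∈ Low d₂ := low_three_two (mul_mem hl hil) (by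
    have z : ∀ i j, d₃ i ≤ d₃ j → (l : M4) i j = if i = j then 1 else 0 := hl
    rw [← map_inv, Submonoid.coe_mul, ia_coe]
    simp (discharger := decide) [Matrix.mul_apply, Fintype.sum_sum_type, Fin.sum_univ_two, sp4,
      Matrix.SpecialLinearGroup.coe_inv, Matrix.adjugate_fin_two, hyl, z, hcd])
  have hu2 : (ia yu)⁻¹ * u ∈ Low (-d₂) := low_three_two' (mul_mem hiu hu) (by
    have z : ∀ i j, (-d₃) i ≤ (-d₃) j → (u : M4) i j = if i = j then 1 else 0 := hu
    rw [← map_inv, Submonoid.coe_mul, ia_coe]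
    simp (discharger := decide) [Matrix.mul_apply, Fintype.sum_sum_type, Fin.sum_univ_two, sp4,
      Matrix.SpecialLinearGroup.coe_inv, Matrix.adjugate_fin_two, hyu, z, hbd])
  have hlu : l * u = l * (ia yl)⁻¹ * ia (yl * yu) * ((ia yu)⁻¹ * u) := by rw [map_mul]; group
  rw [hlu]
  set A := yl * yu with hA
  have hdA := det_eq A
  obtain ⟨m, n, o, k, hd, ho, ht, ho', ht'⟩ := three_zmod (φ.symm (A.1 0 0)) (φ.symm (A.1 0 1))
    (φ.symm (A.1 1 0)) (φ.symm (A.1 1 1)) (by rw [← map_mul, ← map_mul, ← map_sub, hdA, map_one])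
  have hd' := congrArg φ hd
  have ht1 := congrArg φ ht
  have ht2 := congrArg φ ht'
  have ho1 : φ o ≠ 0 := fun e => ho (φ.injective (by rw [e, map_zero]))
  have ho2 := (map_ne_zero φ).2 ho'
  simp only [map_sub, map_mul, map_add, map_neg, map_one, RingEquiv.apply_symm_apply] at hd' ht1 ht2 ho2
  set N00 := -(φ k * A.1 0 0 - φ n * A.1 1 0) with hN00
  set N01 := -(φ k * A.1 0 1 - φ n * A.1 1 1) with hN01
  set N10 := -(-φ o * A.1 0 0 + φ m * A.1 1 0) with hN10
  set N11 := -(-φ o * A.1 0 1 + φ m * A.1 1 1) with hN11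
  set t := φ m + φ k with htd
  set t' := N00 + N11 with htd'
  have ht2' : t' * t' = 1 := by rw [htd', hN00, hN11]; linear_combination ht2
  obtain ⟨R₁, hR1, -, hc1⟩ := conj_oct (φ m) (φ o) (φ n) (φ k) t ho1 hd' htd.symm ht1
  have hdN : N00 * N11 - N01 * N10 = -1 := by
    rw [hN00, hN01, hN10, hN11]; linear_combination hd' + (φ m * φ k - φ n * φ o) * hdA
  obtain ⟨R₂, -, hR2, hc2⟩ := conj_oct N00 N10 N01 N11 t' ho2 hdN htd'.symm ht2'
  obtain ⟨f1, f2⟩ := octEl_free (F := F) h2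
  have hsgn : t * t' = 1 ∨ t * t' = -1 := mul_self_eq_one_iff.1 (by linear_combination t' * t' * ht1 + ht2')
  set z : Sp4 := if t * t' = 1 then 1 else ⟨-(1 : M4), SymplecticGroup.neg_mem (one_mem Sp4)⟩ with hz
  have hzc : z ∈ Subgroup.center Sp4 := by
    rw [hz]; split_ifs
    exacts [one_mem _, neg_one_central]
  have hzb : z ∈ Blk (-d₂) := by
    rw [hz]; split_ifs
    · exact one_mem _
    · intro i j h
      show (-(1 : M4)) i j = 0
      rw [Matrix.neg_apply, Matrix.one_apply_ne (fun e => h (by rw [e])), neg_zero]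
  have hzM : (z : M4) = (t * t') • (1 : M4) := by
    rw [hz]; rcases hsgn with h | h <;> rw [h]
    · simp
    · rw [if_neg (fun e => h2 (by linear_combination -e))]; simp
  have hzz : z * z = 1 := by
    refine Subtype.ext ?_
    rw [Submonoid.coe_mul, hzM, Matrix.smul_mul, one_mul, smul_smul]
    rcases hsgn with h | h <;> simp [h]
  have hAe : ia A = R₁ * octEl * R₁⁻¹ * (R₂ * octEl * R₂⁻¹ * z) := by
    refine Subtype.ext ?_
    show (ia A : M4) = ((R₁ * octEl * R₁⁻¹ : Sp4) : M4) * (((R₂ * octEl * R₂⁻¹ : Sp4) : M4) * (z : M4))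
    rw [hc1, hc2, hzM, Matrix.mul_smul, mul_one, Matrix.mul_smul, sp4_mul, ia_coe, sp4, sp4,
      Matrix.fromBlocks_smul, Matrix.fromBlocks_inj]
    simp [← Matrix.ext_iff, Fin.forall_fin_two]
    have q00 : φ m * N00 + φ n * N10 = A.1 0 0 := by rw [hN00, hN10]; linear_combination (-A.1 0 0) * hd'
    have q01 : φ m * N01 + φ n * N11 = A.1 0 1 := by rw [hN01, hN11]; linear_combination (-A.1 0 1) * hd'
    have q10 : φ o * N00 + φ k * N10 = A.1 1 0 := by rw [hN00, hN10]; linear_combination (-A.1 1 0) * hd'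
    have q11 : φ o * N01 + φ k * N11 = A.1 1 1 := by rw [hN01, hN11]; linear_combination (-A.1 1 1) * hd'
    have hsq : t * t' * (t * t') = 1 := by rcases hsgn with h | h <;> rw [h] <;> ring
    refine ⟨⟨⟨?_, ?_⟩, ?_, ?_⟩, ⟨?_, ?_⟩, ?_, ?_⟩
    · linear_combination -hsq * (φ m * N00 + φ n * N10) - q00
    · linear_combination -hsq * (φ m * N01 + φ n * N11) - q01
    · linear_combination -hsq * (φ o * N00 + φ k * N10) - q10
    · linear_combination -hsq * (φ o * N01 + φ k * N11) - q11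
    · linear_combination -hsq * (φ o * N01 + φ k * N11) - q11
    · linear_combination hsq * (φ o * N00 + φ k * N10) + q10
    · linear_combination hsq * (φ m * N01 + φ n * N11) + q01
    · linear_combination -hsq * (φ m * N00 + φ n * N10) - q00
  rw [hAe]
  refine good_of_factor (f1.conj hR1) ((f2.conj hR2).mul_central hzb hzc) hl2 hu2
    (isConj_iff.2 ⟨R₁, rfl⟩) hzc ?_
  rw [mul_assoc, hzz, mul_one]
  exact isConj_iff.2 ⟨R₂, rfl⟩

theorem comp_coe (s : F) : (comp s).1 = !![0, -1; 1, s] := rfl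

theorem good_five (hcard : Fintype.card F = 5) (h0 : (2 : F) ≠ 0) {g : Sp4}
    (hg : g ∉ Subgroup.center Sp4) : Good (ptEl (2 : F) h0 (comp (-1 : F))) g := by
  have e50 : (5 : ZMod 5) = 0 := by decide
  have e30 : (3 : ZMod 5) ≠ 0 := by decide
  haveI : Fact (Nat.Prime 5) := ⟨by norm_num⟩
  let φ : ZMod 5 ≃+* F := ZMod.ringEquivOfPrime F (by norm_num) hcard
  have h5 : (5 : F) = 0 := by
    have e : (5 : ZMod 5) = 0 := e50
    simpa [map_ofNat] using congrArg φ e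
  have h3 : (3 : F) ≠ 0 := fun e => by
    have : (3 : ZMod 5) = 0 := φ.injective (by rw [map_ofNat, e, map_zero])
    exact e30 this
  obtain ⟨h, hgh, hh0⟩ := conj_corner (ne_scalar_of_not_center hg)
  obtain ⟨l, hl, u, hu, y, -, he⟩ := exists_factor hh0
  have hdy := det_eq y
  have step : ∀ M : SL(2, F), M.1 0 0 + M.1 1 1 = -1 → ∃ r : SL(2, F), M = r * comp (-1) * r⁻¹ := by
    intro M hM
    have hdM := det_eq M
    have h11 : M.1 1 1 = -1 - M.1 0 0 := by linear_combination hM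
    obtain ⟨x, w, hxw⟩ := five_rep (φ.symm (M.1 0 0)) (φ.symm (M.1 0 1)) (φ.symm (M.1 1 0))
      (φ.injective (by
        simp only [map_sub, map_mul, map_neg, map_one, RingEquiv.apply_symm_apply, ← h11]
        exact hdM))
    have := congrArg φ hxw
    simp only [map_sub, map_mul, map_add, map_neg, map_one, RingEquiv.apply_symm_apply, ← h11] at this
    exact conj_comp M (-1) hM (φ x) (φ w) this
  obtain ⟨m, n, o, hd, ht⟩ := five_zmod (φ.symm (y.1 0 0)) (φ.symm (y.1 0 1)) (φ.symm (y.1 1 0))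
    (φ.symm (y.1 1 1)) (by rw [← map_mul, ← map_mul, ← map_sub, hdy, map_one])
  have hd' := congrArg φ hd
  simp only [map_sub, map_mul, map_neg, map_one] at hd'
  obtain ⟨M, hM⟩ : ∃ M : SL(2, F), M.1 = !![φ m, φ n; φ o, -1 - φ m] :=
    ⟨⟨_, by simp [Matrix.det_fin_two]; linear_combination hd'⟩, rfl⟩
  obtain ⟨r₁, hr1⟩ := step M (by rw [hM]; simp)
  set N := M⁻¹ * y with hN
  have hNt : N.1 0 0 + N.1 1 1 = -1 ∨ N.1 0 0 + N.1 1 1 = 1 := by
    have e : N.1 0 0 + N.1 1 1 = (-1 - φ m) * y.1 0 0 - φ n * y.1 1 0 + (-φ o * y.1 0 1 + φ m * y.1 1 1) := by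
      simp [hN, Matrix.SpecialLinearGroup.coe_inv, Matrix.adjugate_fin_two, Matrix.mul_apply,
        Fin.sum_univ_two, hM]
      ring
    rw [e]
    rcases ht with ht | ht <;> [left; right] <;>
      simpa only [map_sub, map_mul, map_add, map_neg, map_one, RingEquiv.apply_symm_apply]
        using congrArg φ ht
  have ha2 : (2 : F) * 2 ≠ 1 := fun e => h3 (by linear_combination e)
  have hc : (2 : F) * 2 - (-1) * 2 + 1 ≠ 0 := fun e => h0 (by linear_combination e - h5)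
  rcases hNt with hNt | hNt
  · obtain ⟨r₂, hr2⟩ := step N hNt
    refine good_pt (r₁ := r₁) (r₂ := r₂) (ε := true) h0 ha2 hc hl hu (he ▸ hgh) ?_ (Or.inl rfl)
    rw [if_pos rfl, ← hr1, ← hr2, hN, mul_inv_cancel_left]
  · obtain ⟨N', hN'⟩ : ∃ N' : SL(2, F), N'.1 = -N.1 :=
      ⟨⟨_, by rw [Matrix.det_neg, Fintype.card_fin, N.2]; norm_num⟩, rfl⟩
    obtain ⟨r₂, hr2⟩ := step N' (by rw [hN']; simp; linear_combination -hNt)
    refine good_pt (r₁ := r₁) (r₂ := r₂) (ε := false) h0 ha2 hc hl hu (he ▸ hgh) ?_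
      (Or.inr (by linear_combination h5))
    simp only [Bool.false_eq_true, if_false, ← hr1, ← hr2]
    show y.1 = -(M.1 * N'.1)
    rw [hN', mul_neg, neg_neg]
    show y.1 = (M * N).1
    rw [hN, mul_inv_cancel_left]

theorem good_four [CharP F 2] (h4 : ∀ x : F, x ≠ 0 → x ^ 3 = 1) (ω : F) (hω0 : ω ≠ 0) (hω : ω ≠ 1)
    {g : Sp4} (hg : g ∉ Subgroup.center Sp4) : Good (ptEl ω hω0 (comp ω)) g := by
  have h2 : (2 : F) = 0 := CharTwo.two_eq_zero
  have hq : ω * ω + ω + 1 = 0 :=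
    (mul_eq_zero.1 (show (ω - 1) * (ω * ω + ω + 1) = 0 by linear_combination h4 ω hω0)).resolve_left
      (sub_ne_zero.2 hω)
  obtain ⟨h, hgh, hh0, hm⟩ := conj_corner_four h4 ω hω0 hω (ne_scalar_of_not_center hg)
  obtain ⟨l, hl, u, hu, y, hy, he⟩ := exists_factor hh0
  have step : ∀ (M : SL(2, F)) (s : F), M.1 0 0 + M.1 1 1 = s → s ≠ 0 →
      ∃ r : SL(2, F), M = r * comp s * r⁻¹ := by
    intro M s hs hs0
    obtain ⟨a, b, hab⟩ : ∃ a b : F,
        a * (M.1 1 0 * a + M.1 1 1 * b) - b * (M.1 0 0 * a + M.1 0 1 * b) ≠ 0 := by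
      by_cases e1 : M.1 1 0 = 0
      swap
      · exact ⟨1, 0, by simpa using e1⟩
      by_cases e2 : M.1 0 1 = 0
      swap
      · exact ⟨0, 1, by simpa using e2⟩
      refine ⟨1, 1, fun e => hs0 ?_⟩
      rw [e1, e2] at e
      linear_combination -hs + e + M.1 0 0 * h2
    set c := a * (M.1 1 0 * a + M.1 1 1 * b) - b * (M.1 0 0 * a + M.1 0 1 * b) with hc
    refine conj_comp M s hs (c * a) (c * b) ?_
    rw [show c * a * (M.1 1 0 * (c * a) + M.1 1 1 * (c * b)) - c * b * (M.1 0 0 * (c * a) + M.1 0 1 * (c * b))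
      = c * c * c by rw [hc]; ring, ← h4 c hab]
    ring
  have cover : ∀ τ : F, τ ≠ 0 → ∃ r₁ r₂ : SL(2, F),
      comp τ = r₁ * comp ω * r₁⁻¹ * (r₂ * comp ω * r₂⁻¹) := by
    intro τ hτ
    obtain ⟨m, n, o, hdet, htr⟩ : ∃ m n o : F, m * (ω + m) + n * o = 1 ∧ n + o + m * τ = ω := by
      have : (τ - 1) * ((τ - ω) * (τ - ω * ω)) = 0 := by
        have := h4 τ hτ
        linear_combination this + (τ - 1) * (ω - 1 - τ) * hq
      rcases mul_eq_zero.1 this with e | e
      · exact ⟨1, 1, ω, by grind, by grind⟩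
      rcases mul_eq_zero.1 e with e | e
      · exact ⟨1, ω * ω, ω * ω, by grind, by grind⟩
      · exact ⟨ω * ω, ω * ω, ω * ω, by grind, by grind⟩
    obtain ⟨M, hM⟩ : ∃ M : SL(2, F), M.1 = !![m, n; o, ω + m] :=
      ⟨⟨_, by simp [Matrix.det_fin_two]; linear_combination hdet - n * o * h2⟩, rfl⟩
    obtain ⟨r₁, hr1⟩ := step M ω (by rw [hM]; simp; linear_combination m * h2) hω0
    obtain ⟨r₂, hr2⟩ := step (M⁻¹ * comp τ) ω (by
      simp [comp_coe, Matrix.SpecialLinearGroup.coe_inv, Matrix.adjugate_fin_two, Matrix.mul_apply,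
        Fin.sum_univ_two, hM]
      linear_combination htr - n * h2) hω0
    exact ⟨r₁, r₂, by rw [← hr1, ← hr2, mul_inv_cancel_left]⟩
  obtain ⟨r₁, r₂, hr⟩ : ∃ r₁ r₂ : SL(2, F), y = r₁ * comp ω * r₁⁻¹ * (r₂ * comp ω * r₂⁻¹) := by
    rcases hm with hm | hm
    · obtain ⟨r, hr⟩ := step (comp ω)⁻¹ ω (by
        simp [comp_coe, Matrix.SpecialLinearGroup.coe_inv, Matrix.adjugate_fin_two]) hω0
      refine ⟨1, r, Subtype.ext ?_⟩
      rw [hy, hm, ← hr]
      simp
    · have htr : y.1 0 0 + y.1 1 1 ≠ 0 := by rw [hy, ← Matrix.trace_fin_two]; exact hm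
      obtain ⟨r, hr⟩ := step y _ rfl htr
      obtain ⟨a, b, hab⟩ := cover _ htr
      refine ⟨r * a, r * b, ?_⟩
      rw [hr, hab]
      group
  refine good_pt (r₁ := r₁) (r₂ := r₂) (ε := true) hω0 ?_ ?_ hl hu (he ▸ hgh) (by rw [if_pos rfl, hr]) (Or.inl rfl)
  · intro e; exact hω0 (by linear_combination hq - e - h2)
  · intro e; exact one_ne_zero (α := F) (by linear_combination e)

theorem good_mk {x g : Sp4} (hg : Good x g) :
    ∃ u v : Cfsg.PSp 2 F, (QuotientGroup.mk g : Cfsg.PSp 2 F) =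
      (u * QuotientGroup.mk x * u⁻¹) * (v * QuotientGroup.mk x * v⁻¹) := by
  obtain ⟨a, b, z, ha, hb, hz, rfl⟩ := hg
  obtain ⟨u, rfl⟩ := isConj_iff.1 ha
  obtain ⟨v, rfl⟩ := isConj_iff.1 hb
  refine ⟨QuotientGroup.mk u, QuotientGroup.mk v, ?_⟩
  simp only [QuotientGroup.mk_mul, QuotientGroup.mk_inv, (QuotientGroup.eq_one_iff z).2 hz, mul_one]

theorem torEl_pow (a b : F) (ha : a ≠ 0) (hb : b ≠ 0) (n : ℕ) :
    torEl a b ha hb ^ n = torEl (a ^ n) (b ^ n) (pow_ne_zero n ha) (pow_ne_zero n hb) := by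
  induction n with
  | zero =>
    refine Subtype.ext ?_
    show (1 : M4) = sp4 (a ^ 0) 0 0 0 0 (b ^ 0) 0 0 0 0 (a ^ 0)⁻¹ 0 0 0 0 (b ^ 0)⁻¹
    simp [sp4_one]
  | succ n ih =>
    rw [pow_succ, ih]
    refine Subtype.ext ?_
    show sp4 (a ^ n) 0 0 0 0 (b ^ n) 0 0 0 0 (a ^ n)⁻¹ 0 0 0 0 (b ^ n)⁻¹ * sp4 a 0 0 0 0 b 0 0 0 0 a⁻¹ 0 0 0 0 b⁻¹ =
      sp4 (a ^ (n + 1)) 0 0 0 0 (b ^ (n + 1)) 0 0 0 0 (a ^ (n + 1))⁻¹ 0 0 0 0 (b ^ (n + 1))⁻¹
    rw [sp4_mul]
    congr 1 <;> simp [pow_succ, mul_inv, mul_comm]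

theorem torEl_one : torEl (1 : F) 1 one_ne_zero one_ne_zero = 1 :=
  Subtype.ext (show sp4 (1 : F) 0 0 0 0 1 0 0 0 0 1⁻¹ 0 0 0 0 1⁻¹ = 1 by simp [sp4_one])

theorem ptEl_pow (a : F) (ha : a ≠ 0) (y : SL(2, F)) (n : ℕ) (h1 : a ^ n = 1) (h2 : y ^ n = 1) :
    ptEl a ha y ^ n = 1 := by
  have hc : Commute (torEl a 1 ha one_ne_zero) (ib y) := (ib_comm_tor a ha y).symm
  rw [ptEl, hc.mul_pow, ← map_pow, h2, map_one, mul_one, torEl_pow]
  simp only [h1, one_pow]
  exact torEl_one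

/-- The main theorem. -/
theorem exists_class (p : ℕ) [Fact p.Prime] [CharP F p] (hcard : 3 ≤ Fintype.card F) :
    ∃ x : Cfsg.PSp 2 F, ¬ p ∣ orderOf x ∧ ∀ g : Cfsg.PSp 2 F, g ≠ 1 →
      ∃ u v : Cfsg.PSp 2 F, g = (u * x * u⁻¹) * (v * x * v⁻¹) := by
  suffices H : ∃ x : Sp4, (∃ k, ¬ p ∣ k ∧ x ^ k = 1) ∧ ∀ g, g ∉ Subgroup.center Sp4 → Good x g by
    obtain ⟨x, ⟨k, hk, hxk⟩, hgood⟩ := H
    refine ⟨QuotientGroup.mk x, fun hd => hk (hd.trans (orderOf_dvd_of_pow_eq_one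
      (by rw [← QuotientGroup.mk_pow, hxk, QuotientGroup.mk_one]))), fun g hg => ?_⟩
    obtain ⟨g', rfl⟩ := QuotientGroup.mk_surjective g
    exact good_mk (hgood g' fun h => hg ((QuotientGroup.eq_one_iff g').2 h))
  obtain ⟨e, hp, hq⟩ := FiniteField.card F p
  have hpd : p ∣ Fintype.card F := hq ▸ dvd_pow_self p e.pos.ne'
  have hdvd : ∀ r : ℕ, r.Prime → Fintype.card F = r → p = r := fun r hr h =>
    (Nat.prime_dvd_prime_iff_eq hp hr).1 (h ▸ hpd)
  obtain hq6 | hq6 : 6 < Fintype.card F ∨ Fintype.card F ≤ 6 := lt_or_ge _ _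
  · obtain ⟨a, ha⟩ := IsCyclic.exists_generator (α := Fˣ)
    have hord : orderOf a = Fintype.card F - 1 := by
      rw [orderOf_eq_card_of_forall_mem_zpowers ha, Nat.card_units, Nat.card_eq_fintype_card]
    have hne : ∀ k, 0 < k → k < Fintype.card F - 1 → (a : F) ^ k ≠ 1 := fun k h0 h1 e =>
      pow_ne_one_of_lt_orderOf h0.ne' (hord ▸ h1) (Units.ext (by simpa using e))
    have hb : (a : F) * a ≠ 0 := mul_ne_zero a.ne_zero a.ne_zero
    refine ⟨torEl (a : F) ((a : F) * a) a.ne_zero hb, ⟨Fintype.card F - 1, ?_, ?_⟩, fun g hg =>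
      good_large _ _ (fun e => hne 1 one_pos (by omega) (by
        rw [pow_one]; exact mul_left_cancel₀ a.ne_zero (by rw [mul_one]; exact e.symm)))
        (fun e => hne 2 two_pos (by omega) (by rw [sq]; exact e))
        (fun e => hne 4 (by omega) (by omega) (by linear_combination e))
        (fun e => hne 3 (by omega) (by omega) (by linear_combination e)) hg⟩
    · intro hd
      have := Nat.dvd_sub hpd hd
      rw [show Fintype.card F - (Fintype.card F - 1) = 1 by omega] at this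
      exact hp.one_lt.ne' (Nat.dvd_one.1 this)
    · rw [torEl_pow]
      have e1 : (a : F) ^ (Fintype.card F - 1) = 1 := FiniteField.pow_card_sub_one_eq_one _ a.ne_zero
      simp only [mul_pow, e1, mul_one]
      exact torEl_one
  · have h0 : Fintype.card F = 3 ∨ Fintype.card F = 4 ∨ Fintype.card F = 5 ∨ Fintype.card F = 6 := by omega
    rcases h0 with h | h | h | h
    · have := hdvd 3 Nat.prime_three h
      subst this
      have h3 : (3 : F) = 0 := by exact_mod_cast CharP.cast_eq_zero F 3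
      refine ⟨octEl, ⟨8, by decide, Subtype.ext ?_⟩, fun g hg => good_three h hg⟩
      show (octEl (F := F) : M4) ^ (2 * 2 * 2) = 1
      rw [show (octEl (F := F) : M4) = sp4 0 1 0 0 1 1 0 0 0 0 (-1) 1 0 0 1 0 by
        simp [octEl, lnEl, Matrix.det_fin_two]]
      simp only [pow_mul, pow_two, sp4_mul]
      rw [← sp4_one]
      congr 1 <;> grind
    · have h2 : p = 2 := by
        rw [h] at hpd
        exact (Nat.prime_dvd_prime_iff_eq hp Nat.prime_two).1 (hp.dvd_of_dvd_pow (show p ∣ 2 ^ 2 by simpa using hpd))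
      subst h2
      have h4 : ∀ x : F, x ≠ 0 → x ^ 3 = 1 := fun x hx => by
        have := FiniteField.pow_card_sub_one_eq_one x hx
        rwa [h] at this
      classical
      obtain ⟨ω, hω⟩ : ∃ ω : F, ω ∉ ({0, 1} : Finset F) := by
        by_contra hc
        push Not at hc
        have := Finset.card_le_card (s := Finset.univ) (t := ({0, 1} : Finset F)) (fun b _ => hc b)
        have := Finset.card_le_two (a := (0 : F)) (b := 1)
        simp only [Finset.card_univ] at *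
        omega
      simp at hω
      have two : (2 : F) = 0 := CharTwo.two_eq_zero
      have hq : ω * ω + ω + 1 = 0 :=
        (mul_eq_zero.1 (show (ω - 1) * (ω * ω + ω + 1) = 0 by linear_combination h4 ω hω.1)).resolve_left
          (sub_ne_zero.2 hω.2)
      refine ⟨ptEl ω hω.1 (comp ω), ⟨15, by decide, ptEl_pow _ _ _ _ ?_ ?_⟩,
        fun g hg => good_four h4 ω hω.1 hω.2 hg⟩
      · rw [show (15 : ℕ) = 3 * 5 by norm_num, pow_mul, h4 ω hω.1, one_pow]
      · rw [show (15 : ℕ) = 5 * 3 by norm_num, pow_mul]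
        suffices e : comp ω ^ 5 = 1 by rw [e, one_pow]
        refine Subtype.ext ?_
        rw [Matrix.SpecialLinearGroup.coe_pow, Matrix.SpecialLinearGroup.coe_one]
        simp only [comp, pow_succ, pow_zero, one_mul, Matrix.one_fin_two]
        ext i j
        fin_cases i <;> fin_cases j <;> simp [Matrix.mul_apply, Fin.sum_univ_two] <;> grind
    · have := hdvd 5 (by norm_num) h
      subst this
      have h5 : (5 : F) = 0 := by exact_mod_cast CharP.cast_eq_zero F 5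
      have h0 : (2 : F) ≠ 0 := fun e => by
        have : ((2 : ℕ) : F) = 0 := by exact_mod_cast e
        have := (CharP.cast_eq_zero_iff F 5 2).1 this
        omega
      refine ⟨ptEl (2 : F) h0 (comp (-1)), ⟨12, by decide, ptEl_pow _ _ _ _ ?_ ?_⟩,
        fun g hg => good_five h h0 hg⟩
      · linear_combination 819 * h5
      · rw [show (12 : ℕ) = 3 * 4 by norm_num, pow_mul]
        suffices e : comp (-1 : F) ^ 3 = 1 by rw [e, one_pow]
        refine Subtype.ext ?_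
        rw [Matrix.SpecialLinearGroup.coe_pow, Matrix.SpecialLinearGroup.coe_one]
        simp only [comp, pow_succ, pow_zero, one_mul, Matrix.one_fin_two]
        ext i j
        fin_cases i <;> fin_cases j <;> simp [Matrix.mul_apply, Fin.sum_univ_two]
    · exfalso
      rw [h] at hq
      have hp2 : p = 2 ∨ p = 3 := by
        rw [h] at hpd
        have : p ∣ 2 * 3 := hpd
        rcases hp.dvd_mul.1 this with d | d
        · exact Or.inl ((Nat.prime_dvd_prime_iff_eq hp Nat.prime_two).1 d)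
        · exact Or.inr ((Nat.prime_dvd_prime_iff_eq hp Nat.prime_three).1 d)
      rcases hp2 with rfl | rfl
      · exact absurd (Nat.prime_three.dvd_of_dvd_pow (show 3 ∣ 2 ^ (e : ℕ) by rw [← hq]; norm_num)) (by norm_num)
      · exact absurd (Nat.prime_two.dvd_of_dvd_pow (show 2 ∣ 3 ^ (e : ℕ) by rw [← hq]; norm_num)) (by norm_num)

end Cfsg.Lib.Linear.SpFourCover
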